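import Cfsg.Agent.ThreeTrans.SpPSU.Orient
import Cfsg.Agent.Classical.SymmTwo
import Cfsg.Agent.ThreeTrans.Param

/-!
# Lines of three members: the symplectic groups

The rows of the noncommuting matrix over two elements, with zero, form a symplectic space on which
the members act as the transvections.
-/

set_option autoImplicit false

open Cfsg

namespace Cfsg.Agent.ThreeTrans.SpPSU

open Cfsg.Agent.Classical

variable {G : Type*} [Group G] {D : Set G} {a d p s : G}

theorem commute_translate (hD : IsThreeTranspositionSet D) (ha : a ∈ D) (hd : d ∈ D) (hs : s ∈ D)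
    (hsa : Commute s a) (had : ¬ Commute a d) (hsd : ¬ Commute s d) :
    Commute d (a * (s * d * s) * a) := by
  have h1 : Commute (d * a * d) (d * s * d) := by
    simpa [inv_eq hD hd] using (commute_conj d a s).2 hsa.symm
  rw [← braid hD ha hd had, ← braid hD hs hd hsd] at h1
  have h2 := (commute_conj a _ _).2 h1
  rw [inv_eq hD ha] at h2
  simpa only [mul_assoc, mul_self_mul hD ha, mul_self hD ha, mul_one] using h2

variable [Finite G]

/-- With lines of three members there is no plane. -/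
theorem no_plane (S : Hyp D) (h3 : ∀ x ∈ D, ∀ b ∈ dperp D x, (line D x b).ncard = 3)
    (ha : a ∈ D) (hd : d ∈ D) (hp : p ∈ D) (had : ¬ Commute a d) (hap : ¬ Commute a p)
    (hdp : ¬ Commute d p) : Commute a (d * p * d) := by
  classical
  have B : Base D a d := ⟨S, ha, hd, had⟩
  have hT := S.hT
  obtain ⟨C⟩ := B.exists_coord_two (h3 a ha)
  have : Fintype (Rep D a d) := Fintype.ofFinite _
  have halt : ∀ x ∈ C.U, C.form x x = 0 := by
    intro x hx
    induction hx using Submodule.span_induction with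
    | mem x hx => obtain ⟨i, rfl⟩ := hx; exact C.form_col_self i
    | zero => rw [C.form_eq (y := 0) (zero_mem _)] <;> simp
    | add x y hx hy h1 h2 =>
      have h3 := C.form_symm hx hy
      simp only [RingHom.id_apply] at h3
      rw [C.form_add_left hx hy (add_mem hx hy), C.form_add_right, C.form_add_right, h1, h2, h3,
        add_zero, zero_add]
      exact C.two _
    | smul μ x hx h1 =>
      rw [C.form_smul_left μ hx (Submodule.smul_mem _ μ hx), C.form_smul_right, h1, mul_zero, mul_zero]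
  have main : ∀ i : Rep D a d, C.K0.ncard = 2 ∧ ∀ x ∈ C.U, x i = 1 → ∃ k, x = C.col k := by
    intro i
    obtain ⟨k₀, hk₀, hik⟩ := B.exists_nc_rep i.2
    have hv : C.col ⟨k₀, hk₀⟩ i = 1 := by
      rcases (show ∀ z : ZMod 2, z = 0 ∨ z = 1 by decide) (C.col ⟨k₀, hk₀⟩ i) with h | h
      · exact absurd ((C.zero_iff i ⟨k₀, hk₀⟩).1 h) hik
      · exact h
    have hle : (C.isoOne i).ncard ≤ (C.ker i).ncard := by
      refine Set.ncard_le_ncard_of_injOn (fun x => x + C.col ⟨k₀, hk₀⟩) (fun x hx => ?_)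
        (fun x _ y _ h => add_right_cancel h) (Set.toFinite _)
      exact ⟨add_mem hx.1 (C.col_mem _), by rw [Pi.add_apply, hx.2.1, hv]; exact C.two 1⟩
    obtain ⟨c1, c2⟩ := C.count i
    rw [ZMod.card] at c1 c2
    have h2 := C.two_le_K0
    have hker : 0 < (C.ker i).ncard := (Set.ncard_pos (Set.toFinite _)).2 ⟨0, zero_mem _, rfl⟩
    have hK : C.K0.ncard = 2 := by
      refine le_antisymm ?_ h2
      by_contra hlt
      have : 3 * (C.ker i).ncard ≤ C.K0.ncard * (C.ker i).ncard := Nat.mul_le_mul_right _ (by omega)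
      omega
    refine ⟨hK, fun x hx hxi => ?_⟩
    obtain ⟨k, μ, hk⟩ := c2 (by rw [hK] at c1 ⊢; omega) x ⟨hx, hxi, halt x hx⟩
    refine ⟨k, ?_⟩
    rcases (show ∀ z : ZMod 2, z = 0 ∨ z = 1 by decide) μ with rfl | rfl
    · rw [hk, zero_smul] at hxi; exact absurd hxi (by simp)
    · rw [hk, one_smul]
  have hpn : p ∈ Coord.NP D a := ⟨hp, hap⟩
  obtain ⟨i₀, hi₀⟩ := B.exists_rep_mem
  have hK := (main ⟨i₀, hi₀⟩).1
  by_cases h0 : C.c p = 0
  · rcases C.eq_or_eq_of_c_eq hK C.d_np hpn (by rw [h0, C.c_d]) with rfl | rfl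
    · exact absurd (Commute.refl _) hdp
    · rw [braid hT ha hd had]
      simp only [mul_assoc, mul_self_mul hT hd, S.sq hd, mul_one]
      exact Commute.refl a
  obtain ⟨i, hi⟩ := Function.ne_iff.1 h0
  have hi1 : C.c p i = 1 := ((show ∀ z : ZMod 2, z = 0 ∨ z = 1 by decide) _).resolve_left hi
  obtain ⟨k, hk⟩ := (main i).2 _ (C.c_mem hpn) hi1
  obtain ⟨t, ht, ht1⟩ := (C.bij k).surjOn (Set.mem_univ 1)
  have htk : t ≠ k := fun e => one_ne_zero (by rw [← ht1, e, C.zero])
  have hdt := B.rep_not_fib k.2 ht htk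
  have htd := C.fib_d ht
  have h1 : C.c (t * d * t) = C.c p := by
    rw [C.c_conj C.d_np ht, C.c_d, hk, ht1]; simp
  rcases C.eq_or_eq_of_c_eq hK (C.np_conj' htd C.d_np) hpn h1.symm with rfl | rfl
  · rw [braid hT htd.1 hd fun e => hdt e.symm]
    simp only [mul_assoc, mul_self_mul hT hd, S.sq hd, mul_one]
    exact htd.2.2
  · exact absurd (commute_translate hT ha hd htd.1 htd.2.2.symm had fun e => hdt e.symm) hdp

open scoped _root_.Classical in
/-- The row of a member. -/
noncomputable def row (D : Set G) (d : G) : G → ZMod 2 :=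
  fun e => if e ∈ D ∧ ¬ Commute d e then 1 else 0

theorem row_sum (S : Hyp D) (h3 : ∀ x ∈ D, ∀ b ∈ dperp D x, (line D x b).ncard = 3) {d e : G}
    (hd : d ∈ D) (he : e ∈ D) (hne : d ≠ e) : ∃ z ∈ D, row D d + row D e = row D z ∧
      (¬ Commute d e → z = d * e * d) := by
  classical
  have hT := S.hT
  have key : ∀ z, (∀ w ∈ D, (Commute d w ∧ Commute e w → Commute z w) ∧
      (Commute d w ∧ ¬ Commute e w → ¬ Commute z w) ∧
      (¬ Commute d w ∧ Commute e w → ¬ Commute z w) ∧
      (¬ Commute d w ∧ ¬ Commute e w → Commute z w)) → row D d + row D e = row D z := by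
    intro z h
    funext w
    by_cases hw : w ∈ D
    · obtain ⟨h1, h2, h3, h4⟩ := h w hw
      by_cases a1 : Commute d w <;> by_cases a2 : Commute e w <;>
        simp [row, hw, a1, a2, h1, h2, h3, h4]
      decide
    · simp [row, hw]
  by_cases hde : Commute d e
  · have hed : e ∈ dperp D d := ⟨he, hne.symm, hde⟩
    obtain ⟨z, hz, hzd, hze⟩ := S.exists_third hd hed
    have hline : ∀ w ∈ line D d e, w = d ∨ w = e ∨ w = z := by
      have hs : ({d, e, z} : Set G) = line D d e := by
        refine Set.eq_of_subset_of_ncard_le (Set.insert_subset (mem_left hd)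
          (Set.insert_subset (mem_right he) (Set.singleton_subset_iff.2 hz))) ?_ (Set.toFinite _)
        rw [h3 d hd e hed, Set.ncard_eq_three.2 ⟨d, e, z, hne, hzd.symm, hze.symm, rfl⟩]
      intro w hw; rwa [← hs] at hw
    refine ⟨z, hz.1, key z fun w hw => ⟨?_, ?_, ?_, ?_⟩, fun h => absurd hde h⟩
    · exact fun h => (hz.2 w ⟨hw, h.1.symm, h.2.symm⟩).symm
    · exact fun h hzw => h.2 (S.commute_of_two hd hed (mem_left hd) hz hzd.symm hw h.1.symm hzw.symm
        (mem_right he)).symm
    · exact fun h hzw => h.1 (S.commute_of_two hd hed (mem_right he) hz hze.symm hw h.2.symm hzw.symm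
        (mem_left hd)).symm
    · intro h
      obtain ⟨u, hu, hwu⟩ := S.exists_commute_line hd hed hw
      rcases hline u hu with rfl | rfl | rfl
      · exact absurd hwu.symm h.1
      · exact absurd hwu.symm h.2
      · exact hwu.symm
  · refine ⟨d * e * d, S.mem_conj hd he, key _ fun w hw => ⟨?_, ?_, ?_, ?_⟩, fun _ => rfl⟩
    · exact fun h => (h.1.mul_left h.2).mul_left h.1
    · intro h hzw
      have h1 := (commute_conj d _ _).2 hzw
      rw [h.1.eq, mul_inv_cancel_right, inv_eq hT hd] at h1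
      exact h.2 (by simpa only [mul_assoc, mul_self_mul hT hd, S.sq hd, mul_one] using h1)
    · intro h hzw
      rw [braid hT hd he hde] at hzw
      have h1 := (commute_conj e _ _).2 hzw
      rw [h.2.eq, mul_inv_cancel_right, inv_eq hT he] at h1
      exact h.1 (by simpa only [mul_assoc, mul_self_mul hT he, S.sq he, mul_one] using h1)
    · exact fun h => (no_plane S h3 hw hd he (fun e' => h.1 e'.symm) (fun e' => h.2 e'.symm) hde).symm

/-- An isometry group of a symplectic space as the symplectic group, through coordinates. -/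
theorem exists_spEquiv_coord {U : Type*} [AddCommGroup U] [Module (ZMod 2) U] [FiniteDimensional (ZMod 2) U]
    {B : LinearMap.BilinForm (ZMod 2) U} (hA : B.IsAlt) (hB : B.Nondegenerate) {n : ℕ}
    (hd : Module.finrank (ZMod 2) U = 2 * n) :
    ∃ (ψ : Alt.isoGroup B ≃* Matrix.symplecticGroup (Fin n) (ZMod 2))
      (L : U ≃ₗ[ZMod 2] (Fin n ⊕ Fin n → ZMod 2)),
      ∀ g x, ((ψ g : Matrix.symplecticGroup (Fin n) (ZMod 2)) :
        Matrix (Fin n ⊕ Fin n) (Fin n ⊕ Fin n) (ZMod 2)).mulVec x = L (g.1 (L.symm x)) := by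
  obtain ⟨m, e, f, hb, hm⟩ := Alt.exists_sympBasis hA ⊤ (Alt.ndon_top hB)
  rw [finrank_top, hd] at hm
  obtain rfl : m = n := by omega
  have hli : LinearIndependent (ZMod 2) (Sum.elim f e) := by
    have := (hb.linearIndependent hA).comp Sum.swap (Equiv.sumComm _ _).injective
    rwa [show Sum.elim e f ∘ Sum.swap = Sum.elim f e from funext fun i => by cases i <;> rfl] at this
  let b : Module.Basis (Fin m ⊕ Fin m) (ZMod 2) U := Module.Basis.mk hli (by
    have : Set.range (Sum.elim f e) = Set.range (Sum.elim e f) := by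
      simp [Set.Sum.elim_range, Set.union_comm]
    rw [this]; exact hb.span)
  let L : U ≃ₗ[ZMod 2] (Fin m ⊕ Fin m → ZMod 2) := b.equivFun
  have hψ : ∀ x y, B (L.symm x) (L.symm y) = sympB m (ZMod 2) x y := fun x y => by
    simp only [L, Module.Basis.equivFun_symm_apply, b, Module.Basis.coe_mk]
    exact Symm2.sympB_basis hA hb x y
  let ω : Alt.isoGroup B ≃* Alt.isoGroup (sympB m (ZMod 2)) :=
    { toFun := fun g => ⟨L.symm.trans (g.1.trans L), fun x y => by
        simp only [LinearEquiv.trans_apply]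
        rw [← hψ, L.symm_apply_apply, L.symm_apply_apply, g.2, hψ]⟩
      invFun := fun g => ⟨L.trans (g.1.trans L.symm), fun x y => by
        simp only [LinearEquiv.trans_apply]
        rw [hψ, g.2, ← hψ, L.symm_apply_apply, L.symm_apply_apply]⟩
      left_inv := fun g => Subtype.ext (LinearEquiv.ext fun x => by simp)
      right_inv := fun g => Subtype.ext (LinearEquiv.ext fun x => by simp)
      map_mul' := fun g h => Subtype.ext (LinearEquiv.ext fun x => by simp [LinearEquiv.mul_apply]) }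
  exact ⟨ω.trans (spEquiv m (ZMod 2)).symm, L, fun g x => spEquiv_symm_mulVec (ω g) x⟩

/-- With lines of three members the group is a symplectic group, a member going to a transvection. -/
theorem exists_symplectic_class (S : Hyp D) (h3 : ∀ x ∈ D, ∀ b ∈ dperp D x, (line D x b).ncard = 3) :
    ∃ n : ℕ, 2 ≤ n ∧ ∃ e : G ≃* Matrix.symplecticGroup (Fin n) (ZMod 2), ∃ d ∈ D,
      (((e d : Matrix.symplecticGroup (Fin n) (ZMod 2)) :
        Matrix (Fin n ⊕ Fin n) (Fin n ⊕ Fin n) (ZMod 2)) - 1).rank = 1 := by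
  classical
  have hT := S.hT
  have hD2 : ∃ a ∈ D, ∃ b ∈ D, a ≠ b := by
    obtain ⟨x, a, -, hx, ha, -⟩ := S.twins
    exact ⟨x, hx, a, ha.1, Ne.symm ha.2.1⟩
  have two : ∀ z : ZMod 2, z = 0 ∨ z = 1 := by decide
  have self : ∀ f : G → ZMod 2, f + f = 0 := fun f => funext fun e => CharTwo.add_self_eq_zero _
  let V : Submodule (ZMod 2) (G → ZMod 2) :=
    { carrier := insert 0 (row D '' D)
      zero_mem' := Set.mem_insert _ _
      add_mem' := by
        rintro u w (rfl | ⟨d, hd, rfl⟩) hw
        · rwa [zero_add]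
        rcases hw with rfl | ⟨e, he, rfl⟩
        · rw [add_zero]; exact Or.inr ⟨d, hd, rfl⟩
        rcases eq_or_ne d e with rfl | hne
        · exact Or.inl (self _)
        · obtain ⟨z, hz, hsum, -⟩ := row_sum S h3 hd he hne
          exact Or.inr ⟨z, hz, hsum.symm⟩
      smul_mem' := fun μ u hu => by
        rcases two μ with rfl | rfl
        · rw [zero_smul]; exact Set.mem_insert _ _
        · rwa [one_smul] }
  have hrow : ∀ d ∈ D, row D d ∈ V := fun d hd => Or.inr ⟨d, hd, rfl⟩
  have hcases : ∀ v : V, v = 0 ∨ ∃ d, ∃ hd : d ∈ D, v = ⟨row D d, hrow d hd⟩ := by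
    rintro ⟨v, rfl | ⟨d, hd, rfl⟩⟩
    · exact Or.inl rfl
    · exact Or.inr ⟨d, hd, rfl⟩
  have hne0 : ∀ d ∈ D, row D d ≠ 0 := fun d hd h => by
    obtain ⟨e, he, hde⟩ := exists_not_commute S.cls hD2 hd
    have := congrFun h e
    simp [row, he, hde] at this
  have hinj : ∀ d ∈ D, ∀ e ∈ D, row D d = row D e → d = e := fun d hd e he h =>
    eq_of_tau hT S.hc S.hsol hd he fun w hw => by
      have := congrFun h w
      by_cases a1 : Commute d w <;> by_cases a2 : Commute e w <;> simp [row, hw, a1, a2] at this ⊢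
  let pt : V → G := fun w => if h : ∃ d, ∃ hd : d ∈ D, w = ⟨row D d, hrow d hd⟩ then h.choose else 1
  have hpt : ∀ d (hd : d ∈ D), pt ⟨row D d, hrow d hd⟩ = d := fun d hd => by
    have h : ∃ d', ∃ hd' : d' ∈ D, (⟨row D d, hrow d hd⟩ : V) = ⟨row D d', hrow d' hd'⟩ := ⟨d, hd, rfl⟩
    simp only [pt, dif_pos h]
    exact (hinj d hd _ h.choose_spec.1 (congrArg Subtype.val h.choose_spec.2)).symm
  let b : V → V → ZMod 2 := fun v w => if w = 0 then 0 else (v : G → ZMod 2) (pt w)
  have hb : ∀ d (hd : d ∈ D) e (he : e ∈ D),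
      b ⟨row D d, hrow d hd⟩ ⟨row D e, hrow e he⟩ = if Commute d e then 0 else 1 := by
    intro d hd e he
    have : (⟨row D e, hrow e he⟩ : V) ≠ 0 := fun h => hne0 e he (congrArg Subtype.val h)
    simp only [b, if_neg this, hpt e he, row, he, true_and]
    by_cases h : Commute d e <;> simp [h]
  have hsymm : ∀ v w, b v w = b w v := by
    intro v w
    rcases hcases v with rfl | ⟨d, hd, rfl⟩ <;> rcases hcases w with rfl | ⟨e, he, rfl⟩
    · rfl
    · simp [b]
    · simp [b]
    · rw [hb d hd e he, hb e he d hd]; simp [Commute.symm_iff]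
  have hadd : ∀ v v' w, b (v + v') w = b v w + b v' w := by
    intro v v' w; by_cases h : w = 0 <;> simp [b, h]
  have hsmul : ∀ (μ : ZMod 2) v w, b (μ • v) w = μ * b v w := by
    intro μ v w; by_cases h : w = 0 <;> simp [b, h]
  let B : LinearMap.BilinForm (ZMod 2) V := LinearMap.mk₂ (ZMod 2) b hadd hsmul
    (fun v w w' => by rw [hsymm, hadd, hsymm w, hsymm w']) (fun μ v w => by rw [hsymm, hsmul, hsymm]; rfl)
  have hBb : ∀ v w, B v w = b v w := fun _ _ => rfl
  have hA : B.IsAlt := fun v => by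
    rw [hBb]
    rcases hcases v with rfl | ⟨d, hd, rfl⟩
    · simp [b]
    · rw [hb d hd d hd, if_pos (Commute.refl d)]
  have hND : B.Nondegenerate := by
    have key : ∀ v, (∀ w, B v w = 0) → v = 0 := fun v hv => by
      rcases hcases v with rfl | ⟨d, hd, rfl⟩
      · rfl
      · obtain ⟨e, he, hde⟩ := exists_not_commute S.cls hD2 hd
        have := hv ⟨row D e, hrow e he⟩
        rw [hBb, hb d hd e he, if_neg hde] at this
        exact absurd this one_ne_zero
    exact ⟨key, fun w hw => key w fun v => by rw [hBb, hsymm]; exact hw v⟩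
  -- the action
  have hconj : ∀ (g : G) d, row D (g * d * g⁻¹) = fun e => row D d (g⁻¹ * e * g) := by
    intro g d
    funext e
    have h1 : e ∈ D ↔ g⁻¹ * e * g ∈ D := ⟨fun h => by simpa using S.hc g⁻¹ e h,
      fun h => by simpa [mul_assoc] using S.hc g _ h⟩
    have h2 : Commute (g * d * g⁻¹) e ↔ Commute d (g⁻¹ * e * g) := by
      conv_lhs => rw [show e = g * (g⁻¹ * e * g) * g⁻¹ by group]
      exact commute_conj g _ _
    simp only [row, h1, h2]
  have hmem : ∀ (g : G) (v : V), (fun e => (v : G → ZMod 2) (g⁻¹ * e * g)) ∈ V := by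
    intro g v
    rcases hcases v with rfl | ⟨d, hd, rfl⟩
    · exact Or.inl rfl
    · exact Or.inr ⟨g * d * g⁻¹, S.hc g d hd, hconj g d⟩
  let T : G → (V ≃ₗ[ZMod 2] V) := fun g =>
    { toFun := fun v => ⟨_, hmem g v⟩
      map_add' := fun v w => rfl
      map_smul' := fun μ v => rfl
      invFun := fun v => ⟨_, hmem g⁻¹ v⟩
      left_inv := fun v => Subtype.ext (funext fun e => by simp [mul_assoc])
      right_inv := fun v => Subtype.ext (funext fun e => by simp [mul_assoc]) }
  have hT' : ∀ g d (hd : d ∈ D), T g ⟨row D d, hrow d hd⟩ = ⟨row D (g * d * g⁻¹), hrow _ (S.hc g d hd)⟩ :=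
    fun g d hd => Subtype.ext (hconj g d).symm
  have hTiso : ∀ g, T g ∈ Alt.isoGroup B := fun g v w => by
    rcases hcases v with rfl | ⟨d, hd, rfl⟩
    · simp
    rcases hcases w with rfl | ⟨e, he, rfl⟩
    · simp
    rw [hT' g d hd, hT' g e he, hBb, hBb, hb _ (S.hc g d hd) _ (S.hc g e he), hb d hd e he]
    simp [commute_conj]
  let ρ : G →* Alt.isoGroup B :=
    { toFun := fun g => ⟨T g, hTiso g⟩
      map_one' := Subtype.ext (LinearEquiv.ext fun v => Subtype.ext (funext fun e => by simp [T]))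
      map_mul' := fun g h => Subtype.ext (LinearEquiv.ext fun v => Subtype.ext (funext fun e => by
        simp [T, mul_assoc])) }
  have hker : Function.Injective ρ := by
    refine (injective_iff_map_eq_one ρ).2 fun g hg => ?_
    have hall : ∀ e ∈ D, Commute g e := by
      intro e he
      have h1 : T g ⟨row D e, hrow e he⟩ = ⟨row D e, hrow e he⟩ := by
        have h2 : T g = 1 := congrArg Subtype.val hg
        rw [h2]; rfl
      rw [hT' g e he] at h1
      have h2 := hinj _ (S.hc g e he) e he (congrArg Subtype.val h1)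
      rwa [mul_inv_eq_iff_eq_mul] at h2
    have hz : g ∈ Subgroup.center G :=
      Subgroup.mem_center_iff.2 fun w => (commute_all S.cls.2.2 hall w).eq.symm
    rw [S.hsol (Subgroup.center G) inferInstance
      (Group.isSolvable_of_comm fun p q => Subtype.ext (Subgroup.mem_center_iff.1 q.2 p)),
      Subgroup.mem_bot] at hz
    exact hz
  have htv : ∀ d (hd : d ∈ D), (ρ d : V ≃ₗ[ZMod 2] V) = Alt.tv hA ⟨row D d, hrow d hd⟩ 1 := by
    intro d hd
    refine LinearEquiv.ext fun v => ?_
    show T d v = _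
    rw [Alt.tv_apply, one_mul, hBb]
    rcases hcases v with rfl | ⟨e, he, rfl⟩
    · simp [b]
    rw [hT' d e he, hb e he d hd]
    by_cases h : Commute e d
    · rw [if_pos h, zero_smul, add_zero]
      exact Subtype.ext (congrArg (row D) (by rw [h.symm.eq, mul_inv_cancel_right] : d * e * d⁻¹ = e))
    · rw [if_neg h, one_smul]
      obtain ⟨z, -, hsum, hz⟩ := row_sum S h3 hd he fun e' => h (e' ▸ Commute.refl _)
      refine Subtype.ext ?_
      show row D (d * e * d⁻¹) = row D e + row D d
      rw [add_comm, hsum, hz fun e' => h e'.symm, inv_eq hT hd]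
  have hsurj : Function.Surjective ρ := by
    intro g
    have hg : (g : V ≃ₗ[ZMod 2] V) ∈ Alt.TG B ⊤ := by rw [Alt.TG_top hA hND]; exact g.2
    have hle : Alt.TG B ⊤ ≤ ρ.range.map (Alt.isoGroup B).subtype := by
      refine (Subgroup.closure_le _).2 ?_
      rintro t ⟨v, -, μ, ht⟩
      have ht' : t = Alt.tv hA v μ := LinearEquiv.ext fun x => ht x
      rw [ht']
      rcases two μ with rfl | rfl
      · rw [Alt.tv_zero]; exact one_mem _
      rcases hcases v with rfl | ⟨d, hd, rfl⟩
      · have : Alt.tv hA (0 : V) 1 = 1 := LinearEquiv.ext fun x => by simp [Alt.tv_apply]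
        rw [this]; exact one_mem _
      · exact ⟨ρ d, ⟨d, rfl⟩, htv d hd⟩
    obtain ⟨y, ⟨x, rfl⟩, hy⟩ := hle hg
    exact ⟨x, Subtype.ext hy⟩
  obtain ⟨m, -, -, -, hm⟩ := Alt.exists_sympBasis hA ⊤ (Alt.ndon_top hND)
  rw [finrank_top] at hm
  obtain ⟨ψ, L, hψL⟩ := exists_spEquiv_coord hA hND hm
  obtain ⟨x, a, -, hx, ha, -⟩ := S.twins
  obtain ⟨y, hy, hxy⟩ := exists_not_commute S.cls hD2 hx
  have hm2 : 2 ≤ m := by
    by_contra hlt
    let vx : V := ⟨row D x, hrow x hx⟩
    let va : V := ⟨row D a, hrow a ha.1⟩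
    let vy : V := ⟨row D y, hrow y hy⟩
    have nx : vx ≠ 0 := fun h => hne0 x hx (congrArg Subtype.val h)
    have na : va ≠ 0 := fun h => hne0 a ha.1 (congrArg Subtype.val h)
    have nxa : va ≠ vx := fun h => ha.2.1 (hinj a ha.1 x hx (congrArg Subtype.val h))
    have bxx : B vx vx = 0 := hA vx
    have bxa : B vx va = 0 := by rw [hBb, hb x hx a ha.1, if_pos ha.2.2]
    have bxy : B vx vy = 1 := by rw [hBb, hb x hx y hy, if_neg hxy]
    have self' : vx + vx = 0 := Subtype.ext (self _)
    have ns : va + vx ≠ 0 := fun h => nxa (add_right_cancel (h.trans self'.symm))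
    have hy' : ∀ v : V, B vx v = 0 → v ≠ vy := fun v hv e =>
      zero_ne_one (hv.symm.trans (by rw [e, bxy]))
    have h5 : ({0, vx, va, va + vx, vy} : Finset V).card = 5 := by
      rw [Finset.card_insert_of_notMem, Finset.card_insert_of_notMem, Finset.card_insert_of_notMem,
        Finset.card_pair (hy' _ (by rw [map_add, bxa, bxx, add_zero]))]
      · simp only [Finset.mem_insert, Finset.mem_singleton, left_eq_add, not_or]
        exact ⟨nx, hy' _ bxa⟩
      · simp only [Finset.mem_insert, Finset.mem_singleton, right_eq_add, not_or]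
        exact ⟨Ne.symm nxa, na, hy' _ bxx⟩
      · simp only [Finset.mem_insert, Finset.mem_singleton, not_or]
        exact ⟨Ne.symm nx, Ne.symm na, Ne.symm ns, hy' _ (map_zero _)⟩
    have : Fintype V := Fintype.ofFinite _
    have h6 := Finset.card_le_univ ({0, vx, va, va + vx, vy} : Finset V)
    rw [h5, Module.card_eq_pow_finrank (K := ZMod 2), hm, ZMod.card] at h6
    have : 2 ^ (2 * m) ≤ 2 ^ 2 := Nat.pow_le_pow_right (by norm_num) (by omega)
    omega
  refine ⟨m, hm2, (MulEquiv.ofBijective ρ ⟨hker, hsurj⟩).trans ψ, x, hx, ?_⟩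
  refine rank_of_oneDir (v := L ⟨row D x, hrow x hx⟩)
    (φ := ((B ⟨row D x, hrow x hx⟩).comp L.symm.toLinearMap))
    (fun h => hne0 x hx (congrArg Subtype.val (L.map_eq_zero_iff.1 h))) ⟨L ⟨row D y, hrow y hy⟩, ?_⟩
    fun z => ?_
  · show B _ (L.symm (L _)) = 1
    rw [L.symm_apply_apply, hBb, hb x hx y hy, if_neg hxy]
  · show ((ψ (ρ x) : Matrix.symplecticGroup (Fin m) (ZMod 2)) :
        Matrix (Fin m ⊕ Fin m) (Fin m ⊕ Fin m) (ZMod 2)).mulVec z = z + B _ (L.symm z) • L _
    rw [hψL, htv x hx, Alt.tv_apply, one_mul, map_add, map_smul, L.apply_symm_apply, hBb, hBb, hsymm]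

theorem exists_symplectic (S : Hyp D) (h3 : ∀ x ∈ D, ∀ b ∈ dperp D x, (line D x b).ncard = 3) :
    ∃ n : ℕ, Nonempty (G ≃* Matrix.symplecticGroup (Fin n) (ZMod 2)) := by
  obtain ⟨n, -, e, -⟩ := exists_symplectic_class S h3
  exact ⟨n, ⟨e⟩⟩

end Cfsg.Agent.ThreeTrans.SpPSU
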