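import Cfsg.Agent.ThreeTrans.SpPSU.Unitary
import Cfsg.Agent.Classical.HermSimple
import Cfsg.Agent.Classical.UnitaryGroup
import Cfsg.Agent.ThreeTrans.Param

/-!
# Lines of five members: the unitary groups

The members are the isotropic points of a Hermitian space of dimension at least four over the field
with four elements, commuting being orthogonality; so each acts as its transvection and the group is
the projective special unitary group.
-/

set_option autoImplicit false

open Cfsg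

namespace Cfsg.Agent.ThreeTrans.SpPSU

open Cfsg.Agent.ThreeTrans.SU32
open Cfsg.Agent.Classical Cfsg.Agent.Classical.Herm Module

variable {G : Type*} [Group G] {D : Set G} {a d : G}

section Geometry

variable {V : Type*} [AddCommGroup V] [Module F4 V] [FiniteDimensional F4 V]
  {B : V →ₛₗ[F4.frob] V →ₗ[F4] F4}

/-- An isotropic vector orthogonal to what is orthogonal to a hyperbolic pair, and on neither of its
points, is on the third point of the pair. -/
theorem third_point (h : IsHerm B) (hn : 4 ≤ finrank F4 V) {P E R : V} (hP : B P P = 0) (hE : B E E = 0)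
    (hPE : B P E ≠ 0) (hR : B R R = 0) (hRP : ∀ μ : F4, R ≠ μ • P) (hRE : ∀ μ : F4, R ≠ μ • E)
    (hperp : ∀ X : V, X ≠ 0 → B X X = 0 → B X P = 0 → B X E = 0 → B X R = 0) :
    ∃ μ : F4, μ ≠ 0 ∧ R = μ • (P + B E P • E) := by
  set c := B P E with hc
  have hEP : B E P = F4.frob c := (h.symm P E).symm
  set f0 := P + (F4.w / c) • E with hf0
  set f1 := P + (F4.w' / c) • E with hf1
  have key1 : ∀ z : F4, z ≠ 0 → F4.w / z * z + F4.frob (F4.w / z) * F4.frob z = 1 := by decide +kernel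
  have key2 : ∀ z : F4, z ≠ 0 → F4.w' / z * z + F4.frob (F4.w' / z) * F4.frob z = 1 := by decide +kernel
  have key3 : ∀ z : F4, z ≠ 0 → F4.w' / z * z + F4.frob (F4.w / z) * F4.frob z = 0 := by decide +kernel
  have key4 : ∀ z : F4, z ≠ 0 → F4.w / z * z + F4.frob (F4.w' / z) * F4.frob z = 0 := by decide +kernel
  have hon : Cfsg.Agent.Classical.Herm.IsON B ![f0, f1] := by
    intro i j
    fin_cases i <;> fin_cases j <;> simp [f0, f1, hP, hE, hEP, ← hc]
    exacts [by simpa using key1 c hPE, by simpa using key3 c hPE, by simpa using key4 c hPE,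
      by simpa using key2 c hPE]
  obtain ⟨m, hm⟩ : ∃ m, 2 + m = finrank F4 V := ⟨finrank F4 V - 2, by omega⟩
  obtain ⟨b, hb, hbperp, hbx⟩ := exists_compl_frame h hon hm
  have hbP : ∀ i, B (b i) P = 0 ∧ B (b i) E = 0 := by
    intro i
    have h0 : B f0 (b i) = 0 := mem_perpOf.1 (hbperp i) 0
    have h1 : B f1 (b i) = 0 := mem_perpOf.1 (hbperp i) 1
    simp only [f0, f1, map_add, map_smulₛₗ, LinearMap.add_apply, LinearMap.smul_apply, smul_eq_mul] at h0 h1
    have hE0 : B E (b i) = 0 := by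
      have key : ∀ z : F4, z ≠ 0 → F4.frob (F4.w / z) + F4.frob (F4.w' / z) ≠ 0 := by decide +kernel
      refine (mul_eq_zero.1 (?_ : (F4.frob (F4.w / c) + F4.frob (F4.w' / c)) * B E (b i) = 0)).resolve_left
        (key c hPE)
      linear_combination h0 + h1 - f4_two (B P (b i))
    rw [hE0, mul_zero, add_zero] at h0
    exact ⟨by rw [← h.symm, h0, map_zero], by rw [← h.symm, hE0, map_zero]⟩
  have hzero : ∀ i, B (b i) R = 0 := by
    intro i
    obtain ⟨j, hij⟩ : ∃ j : Fin m, j ≠ i := by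
      have : Nontrivial (Fin m) := Fin.nontrivial_iff_two_le.2 (by omega)
      exact exists_ne i
    have hX : ∀ ζ : F4, ζ ≠ 0 → B (b j + ζ • b i) R = 0 := by
      intro ζ hζ
      refine hperp _ (fun e => ?_) ?_ ?_ ?_
      · have := congrArg (B (b j)) e
        simp [hb _ _, hij] at this
      · simp [hb _ _, hij, Ne.symm hij]
        have key : ∀ z : F4, z ≠ 0 → 1 + F4.frob z * z = 0 := by decide +kernel
        exact key ζ hζ
      · simp [hbP]
      · simp [hbP]
    have h1 := hX 1 one_ne_zero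
    have h2 := hX F4.w (by decide)
    simp at h1 h2
    have key : ∀ p q : F4, p + q = 0 → p + F4.frob F4.w * q = 0 → q = 0 := by decide +kernel
    exact key _ _ h1 h2
  set R' := R - B f0 R • f0 - B f1 R • f1 with hR'
  have hf : B f0 f0 = 1 ∧ B f0 f1 = 0 ∧ B f1 f0 = 0 ∧ B f1 f1 = 1 :=
    ⟨by simpa using hon 0 0, by simpa using hon 0 1, by simpa using hon 1 0, by simpa using hon 1 1⟩
  have hR'mem : R' ∈ perpOf B ![f0, f1] := mem_perpOf.2 fun i => by
    fin_cases i <;> simp [hR', hf]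
  have hR'0 : R' = 0 := by
    rw [hbx R' hR'mem]
    refine Finset.sum_eq_zero fun i _ => ?_
    have e0 : B (b i) f0 = 0 := by simp [f0, hbP]
    have e1 : B (b i) f1 = 0 := by simp [f1, hbP]
    simp [hR', hzero, e0, e1]
  obtain ⟨α, β, hαβ⟩ : ∃ α β : F4, R = α • P + β • E := by
    refine ⟨B f0 R + B f1 R, B f0 R * (F4.w / c) + B f1 R * (F4.w' / c), ?_⟩
    have : R = B f0 R • f0 + B f1 R • f1 := by
      rw [hR', sub_sub, sub_eq_zero] at hR'0; exact hR'0
    conv_lhs => rw [this]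
    simp only [f0, f1]
    module
  have hα : α ≠ 0 := fun e => hRE β (by rw [hαβ, e, zero_smul, zero_add])
  have hβ : β ≠ 0 := fun e => hRP α (by rw [hαβ, e, zero_smul, add_zero])
  have hn0 : F4.frob α * (β * c) + F4.frob β * (α * F4.frob c) = 0 := by
    rw [hαβ] at hR
    simp [hP, hE, hEP, ← hc] at hR
    linear_combination hR
  have key : ∀ p q z : F4, p ≠ 0 → q ≠ 0 → z ≠ 0 → F4.frob p * (q * z) + F4.frob q * (p * F4.frob z) = 0 →
      q = p * F4.frob z := by decide +kernel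
  refine ⟨α, hα, ?_⟩
  rw [hαβ, key α β c hα hβ hPE hn0, hEP, smul_add, smul_smul]

end Geometry

variable [Finite G]

namespace Coord

variable (C : Coord D a d F4 F4.frob) [Fintype (Rep D a d)]
include C

/-- The Hermitian space. -/
abbrev Sp : Type _ := F4 × F4 × ↥C.U

/-- The form. -/
noncomputable def spB : C.Sp →ₛₗ[F4.frob] C.Sp →ₗ[F4] F4 :=
  LinearMap.mk₂'ₛₗ F4.frob (RingHom.id F4)
    (fun v w => F4.frob v.1 * w.2.1 + F4.frob v.2.1 * w.1 + C.form v.2.2 w.2.2)
    (fun v v' w => by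
      simp only [Prod.fst_add, Prod.snd_add, Submodule.coe_add, map_add,
        C.form_add_left v.2.2.2 v'.2.2.2 w.2.2.2]
      ring)
    (fun μ v w => by
      simp only [Prod.smul_fst, Prod.smul_snd, Submodule.coe_smul, smul_eq_mul, map_mul,
        C.form_smul_left μ v.2.2.2 w.2.2.2]
      ring)
    (fun v w w' => by
      simp only [Prod.fst_add, Prod.snd_add, Submodule.coe_add, C.form_add_right]
      ring)
    (fun μ v w => by
      simp only [Prod.smul_fst, Prod.smul_snd, Submodule.coe_smul, smul_eq_mul, C.form_smul_right,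
        RingHom.id_apply]
      ring)

theorem spB_apply (v w : C.Sp) :
    C.spB v w = F4.frob v.1 * w.2.1 + F4.frob v.2.1 * w.1 + C.form v.2.2 w.2.2 := rfl

theorem form_zero_left {u : Rep D a d → F4} (hu : u ∈ C.U) : C.form 0 u = 0 := by
  rw [C.form_eq (y := 0) hu] <;> simp

theorem form_zero_right (u : Rep D a d → F4) : C.form u 0 = 0 := by simp [form]

theorem spB_herm : IsHerm C.spB where
  toIsInvol := F4.frob_invol
  symm v w := by
    simp only [spB_apply, map_add, map_mul, f4_invol, C.form_symm v.2.2.2 w.2.2.2]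
    ring
  nondeg v hv := by
    have h1 := hv (1, 0, 0)
    have h2 := hv (0, 1, 0)
    simp [spB_apply, form_zero_right] at h1 h2
    refine Prod.ext h2 (Prod.ext h1 (Subtype.ext ?_))
    refine C.form_nondeg v.2.2.2 fun g hg => ?_
    have := hv (0, 0, ⟨g, hg⟩)
    simpa [spB_apply] using this

open scoped _root_.Classical in
/-- The vector of a member. -/
noncomputable def vec (e : G) : C.Sp :=
  if e = a then (1, 0, 0)
  else if hr : ∃ k : Rep D a d, e ∈ fib D a k then
    (F4.frob (C.φ hr.choose e), 0, ⟨C.col hr.choose, C.col_mem _⟩)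
  else if hp : e ∈ NP D a then (C.lam e, 1, ⟨C.c e, C.c_mem hp⟩) else 0

omit [Fintype (Rep D a d)] in
theorem member_cases {e : G} (he : e ∈ D) :
    e = a ∨ (e ≠ a ∧ ∃ k : Rep D a d, e ∈ fib D a k) ∨ e ∈ NP D a := by
  rcases eq_or_ne e a with h | h
  · exact Or.inl h
  by_cases hc : Commute a e
  · obtain ⟨k, hk, hek⟩ := C.base.exists_rep ⟨he, h, hc⟩
    exact Or.inr (Or.inl ⟨h, ⟨k, hk⟩, hek⟩)
  · exact Or.inr (Or.inr ⟨he, hc⟩)

theorem vec_self : C.vec a = (1, 0, 0) := if_pos rfl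

theorem vec_fib {e : G} {k : Rep D a d} (he : e ∈ fib D a k) :
    C.vec e = (F4.frob (C.φ k e), 0, ⟨C.col k, C.col_mem _⟩) := by
  classical
  have hr : ∃ k : Rep D a d, e ∈ fib D a k := ⟨k, he⟩
  have hk : hr.choose = k := by
    refine Subtype.ext (C.base.rep_unique k.2 hr.choose.2 ?_)
    rw [← C.hyp.fib_line C.base.ha (C.rep k) he,
      C.hyp.fib_line C.base.ha (C.rep hr.choose) hr.choose_spec]
    exact mem_right hr.choose.2.1
  simp only [vec, if_neg (show ¬ e = a from he.2), dif_pos hr]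
  subst hk; rfl

theorem vec_np {e : G} (he : e ∈ NP D a) : C.vec e = (C.lam e, 1, ⟨C.c e, C.c_mem he⟩) := by
  classical
  have hne : ¬ e = a := fun h => he.2 (h ▸ Commute.refl e)
  have hr : ¬ ∃ k : Rep D a d, e ∈ fib D a k := fun ⟨k, hk⟩ => he.2 (C.fib_d hk).2.2
  simp only [vec, if_neg hne, dif_neg hr, dif_pos he]

theorem vec_ne {e : G} (he : e ∈ D) : C.vec e ≠ 0 := by
  rcases C.member_cases he with rfl | ⟨-, k, hk⟩ | h
  · simp [C.vec_self]
  · rw [C.vec_fib hk]
    intro h
    exact C.col_ne_zero k (congrArg (fun v : C.Sp => (v.2.2 : Rep D a d → F4)) h)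
  · simp [C.vec_np h]

theorem commute_iff_perp {e f : G} (he : e ∈ D) (hf : f ∈ D) :
    Commute e f ↔ C.spB (C.vec e) (C.vec f) = 0 := by
  have afib : ∀ {f : G} {k : Rep D a d}, f ∈ fib D a k → Commute a f ∧ C.spB (C.vec a) (C.vec f) = 0 := by
    intro f k hk
    refine ⟨(C.fib_d hk).2.2, ?_⟩
    simp [spB_apply, C.vec_self, C.vec_fib hk, C.form_zero_left (C.col_mem k)]
  have anp : ∀ {f : G}, f ∈ NP D a → ¬ Commute a f ∧ C.spB (C.vec a) (C.vec f) ≠ 0 := by
    intro f hf
    refine ⟨hf.2, ?_⟩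
    simp [spB_apply, C.vec_self, C.vec_np hf, C.form_zero_left (C.c_mem hf)]
  have fnp : ∀ {e f : G} {k : Rep D a d}, e ∈ fib D a k → f ∈ NP D a →
      (Commute e f ↔ C.spB (C.vec e) (C.vec f) = 0) := by
    intro e f k hk hf
    simp only [spB_apply, C.vec_fib hk, C.vec_np hf, f4_invol, mul_one, map_zero, zero_mul, add_zero,
      C.form_col (C.c_mem hf)]
    constructor
    · intro h
      show C.φ k e + C.φ k (C.pt f k) = 0
      rw [C.pt_unique hf hk h.symm, f4_two]
    · intro h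
      have h1 : C.φ k (C.pt f k) = C.φ k e := by
        have : C.φ k e + C.φ k (C.pt f k) = 0 := h
        linear_combination this - f4_two (C.φ k e)
      rw [← (C.bij k).injOn (C.pt_spec hf k).1 hk h1]
      exact (C.pt_spec hf k).2.symm
  have sym : ∀ {e f : G}, (Commute e f ↔ C.spB (C.vec e) (C.vec f) = 0) →
      (Commute f e ↔ C.spB (C.vec f) (C.vec e) = 0) := fun h =>
    Commute.symm_iff.trans (h.trans (Herm.eq_zero_comm C.spB_herm))
  rcases C.member_cases he with rfl | ⟨-, k, hk⟩ | hen <;>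
    rcases C.member_cases hf with rfl | ⟨-, l, hl⟩ | hfn
  · simp [spB_apply, C.vec_self, C.form_zero_left (zero_mem C.U)]
  · exact ⟨fun _ => (afib hl).2, fun _ => (afib hl).1⟩
  · exact ⟨fun h => absurd h (anp hfn).1, fun h => absurd h (anp hfn).2⟩
  · exact sym ⟨fun _ => (afib hk).2, fun _ => (afib hk).1⟩
  · rw [C.hyp.commute_fib_fib C.base.ha (C.rep k) (C.rep l) hk hl, ← C.zero_iff]
    simp [spB_apply, C.vec_fib hk, C.vec_fib hl, C.form_col (C.col_mem l), col]
  · exact fnp hk hfn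
  · exact sym ⟨fun h => absurd h (anp hen).1, fun h => absurd h (anp hen).2⟩
  · exact sym (fnp hl hen)
  · rw [C.commute_iff hen hfn]
    simp [spB_apply, C.vec_np hen, C.vec_np hfn, add_comm]

theorem vec_iso {e : G} (he : e ∈ D) : C.spB (C.vec e) (C.vec e) = 0 :=
  (C.commute_iff_perp he he).1 (Commute.refl e)

theorem vec_inj {e f : G} (he : e ∈ D) (hf : f ∈ D) {μ : F4} (h : μ • C.vec f = C.vec e) : e = f := by
  have hμ : μ ≠ 0 := fun h0 => C.vec_ne he (by rw [← h, h0, zero_smul])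
  refine eq_of_tau C.hT C.hyp.hc C.hyp.hsol he hf fun z hz => ?_
  rw [C.commute_iff_perp he hz, C.commute_iff_perp hf hz, ← h, LinearMap.map_smulₛₗ, LinearMap.smul_apply,
    smul_eq_mul, mul_eq_zero, or_iff_right (fun e => hμ ((map_eq_zero F4.frob).1 e))]

theorem vec_surj {v : C.Sp} (hv : v ≠ 0) (h : C.spB v v = 0) :
    ∃ e ∈ D, ∃ μ : F4, μ • C.vec e = v := by
  obtain ⟨α, β, ⟨u, hu⟩⟩ := v
  simp only [spB_apply] at h
  by_cases hβ : β = 0
  · subst hβ
    simp only [mul_zero, map_zero, zero_mul, zero_add] at h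
    by_cases hu0 : u = 0
    · subst hu0
      exact ⟨a, C.base.ha, α, by simp [C.vec_self]; rfl⟩
    obtain ⟨k, μ, hμ, rfl⟩ := C.iso_cases hu hu0 h
    obtain ⟨s, hs, hsφ⟩ := (C.bij k).surjOn (Set.mem_univ (F4.frob (α / μ)))
    refine ⟨s, hs.1.1, μ, ?_⟩
    rw [C.vec_fib hs, hsφ, f4_invol]
    ext <;> simp [mul_div_cancel₀ _ hμ]
  · set u' := β⁻¹ • u with hu'
    have hu'U : u' ∈ C.U := Submodule.smul_mem _ _ hu
    obtain ⟨p, hp, hpc⟩ := C.exists_np hu'U
    have hlt := C.lam_trace hp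
    rw [hpc] at hlt
    have hh : (α / β) + F4.frob (α / β) = C.form u' u' := by
      rw [hu', C.form_smul_left _ hu (Submodule.smul_mem _ _ hu), C.form_smul_right]
      generalize C.form u u = n at h
      have key : ∀ p q n : F4, q ≠ 0 → F4.frob p * q + F4.frob q * p + n = 0 →
          p / q + F4.frob (p / q) = F4.frob q⁻¹ * (q⁻¹ * n) := by decide +kernel
      exact key α β n hβ h
    have key2 : ∀ p q n : F4, p + F4.frob p = n → q + F4.frob q = n → p = q ∨ p = q + 1 := by decide +kernel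
    rcases key2 (α / β) (C.lam p) _ hh hlt with e | e
    · refine ⟨p, hp.1, β, ?_⟩
      rw [C.vec_np hp, ← e]
      ext <;> simp [hpc, hu', mul_div_cancel₀ _ hβ, smul_inv_smul₀ hβ, hβ]
    · refine ⟨a * p * a, (C.aa_np hp).1, β, ?_⟩
      rw [C.vec_np (C.aa_np hp)]
      ext <;> simp [C.lam_aa hp, C.c_aa hp, ← e, hpc, hu', mul_div_cancel₀ _ hβ, hβ]

theorem four_le_rank : 4 ≤ finrank F4 C.Sp := by
  obtain ⟨i, hi⟩ := C.base.exists_rep_mem
  obtain ⟨k, hk, hik⟩ := C.base.exists_nc_rep hi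
  have hli : LinearIndependent F4 ![(⟨C.col ⟨i, hi⟩, C.col_mem _⟩ : C.U), ⟨C.col ⟨k, hk⟩, C.col_mem _⟩] := by
    refine LinearIndependent.pair_iff.2 fun p q hpq => ?_
    have h1 := congrFun (congrArg Subtype.val hpq) ⟨i, hi⟩
    have h2 := congrFun (congrArg Subtype.val hpq) ⟨k, hk⟩
    have hH1 : C.H ⟨i, hi⟩ ⟨k, hk⟩ ≠ 0 := fun e => hik ((C.zero_iff ⟨i, hi⟩ ⟨k, hk⟩).1 e)
    have hH2 : C.H ⟨k, hk⟩ ⟨i, hi⟩ ≠ 0 := fun e => hik ((C.zero_iff ⟨k, hk⟩ ⟨i, hi⟩).1 e).symm
    simp [col, C.H_self, hH1] at h1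
    simp [col, C.H_self, hH2] at h2
    exact ⟨h2, h1⟩
  have h2 := hli.fintype_card_le_finrank
  rw [Fintype.card_fin] at h2
  rw [Module.finrank_prod, Module.finrank_prod, Module.finrank_self]
  omega

theorem exists_psu_class : ∃ n : ℕ, 4 ≤ n ∧ ∃ e : G ≃* Cfsg.PSU n F4 2, ∃ d ∈ D,
    ∃ g : ↥(Cfsg.SU n F4 2),
      (((g : Matrix.SpecialLinearGroup (Fin n) F4) : Matrix (Fin n) (Fin n) F4) - 1).rank = 1 ∧
        e d = (g : Cfsg.PSU n F4 2) := by
  classical
  have hT := C.hT
  have hH := C.spB_herm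
  have h4 := C.four_le_rank
  obtain ⟨n, b, hb, hndef⟩ : ∃ (n : ℕ) (b : Basis (Fin n) F4 C.Sp),
      Cfsg.Agent.Classical.Herm.IsON C.spB b ∧ n = finrank F4 C.Sp := by
    obtain ⟨b, hb⟩ := exists_orthonormal hH
    exact ⟨_, b, hb, rfl⟩
  let L : C.Sp ≃ₗ[F4] (Fin n → F4) := b.equivFun
  have hL : ∀ v w, hermB n F4.frob (L v) (L w) = C.spB v w := by
    intro v w
    conv_rhs => rw [← b.sum_equivFun v, ← b.sum_equivFun w]
    simp only [hermB_apply, L, map_sum, LinearMap.map_smulₛₗ, map_smul, LinearMap.sum_apply,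
      LinearMap.smul_apply, smul_eq_mul, hb _ _, mul_ite, mul_one, mul_zero, Finset.sum_ite_eq,
      Finset.sum_ite_eq', Finset.mem_univ, if_true]
    refine Finset.sum_congr rfl fun i _ => ?_
    ring
  set B' := hermB n F4.frob with hB'
  have hH' : IsHerm B' := hermB_isHerm F4.frob_invol n
  have hne : ∀ e : D, L (C.vec e) ≠ 0 := fun e => fun h => C.vec_ne e.2 (L.map_eq_zero_iff.1 h)
  have hiso : ∀ e : D, B' (L (C.vec e)) (L (C.vec e)) = 0 := fun e => by rw [hL]; exact C.vec_iso e.2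
  let Φ0 : D → Iso B' := fun e => Herm.pt (L (C.vec e)) (hne e) (hiso e)
  have hΦ : Function.Bijective Φ0 := by
    refine ⟨fun e f h => ?_, fun P => ?_⟩
    · obtain ⟨μ, hμ⟩ := (pt_eq_iff _ _ _ _).1 h
      rw [← map_smul] at hμ
      exact Subtype.ext (C.vec_inj e.2 f.2 (L.injective hμ))
    · obtain ⟨u, hu, huu, rfl⟩ := exists_pt P
      obtain ⟨e, he, μ, hμ⟩ := C.vec_surj (v := L.symm u) (by simpa using hu)
        (by rw [← hL, L.apply_symm_apply]; exact huu)
      refine ⟨⟨e, he⟩, (pt_eq_iff _ _ _ _).2 ⟨μ⁻¹, ?_⟩⟩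
      have hμ0 : μ ≠ 0 := fun h0 => hu <| by
        rw [h0, zero_smul] at hμ
        simpa using congrArg L hμ.symm
      have h2 : u = μ • L (C.vec e) := by rw [← map_smul, hμ, L.apply_symm_apply]
      rw [h2, inv_smul_smul₀ hμ0]
  let E := Equiv.ofBijective Φ0 hΦ
  -- conjugation
  have hc := C.hyp.hc
  let cp : G →* Equiv.Perm D :=
    { toFun := fun g =>
        { toFun := fun e => ⟨g * e * g⁻¹, hc g e e.2⟩
          invFun := fun e => ⟨g⁻¹ * e * g, by simpa using hc g⁻¹ e e.2⟩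
          left_inv := fun e => Subtype.ext (by simp [mul_assoc])
          right_inv := fun e => Subtype.ext (by simp [mul_assoc]) }
      map_one' := Equiv.ext fun e => Subtype.ext (by simp)
      map_mul' := fun g h => Equiv.ext fun e => Subtype.ext (by simp [mul_assoc]) }
  let ψ : G →* Equiv.Perm (Iso B') := (E.permCongrHom).toMonoidHom.comp cp
  let ρ : suG B' →* Equiv.Perm (Iso B') := MulAction.toPermHom (suG B') (Iso B')
  have hψ : ∀ g (e : D), ψ g (Φ0 e) = Φ0 ⟨g * e * g⁻¹, hc g e e.2⟩ := by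
    intro g e
    show E (cp g (E.symm (E e))) = _
    rw [Equiv.symm_apply_apply]
    rfl
  have h11 : (1 : F4) + F4.frob 1 = 0 := by decide +kernel
  let τ : D → suG B' := fun e => ⟨tvU (hiso e) 1, tvU_mem hH' (hiso e) h11⟩
  have hτ : ∀ e : D, ψ e = ρ (τ e) := by
    intro e
    refine Equiv.ext fun P => ?_
    obtain ⟨f, rfl⟩ := hΦ.2 P
    rw [hψ]
    show _ = τ e • Φ0 f
    rw [smul_pt]
    refine (pt_eq_iff _ _ _ _).2 ?_
    show ∃ μ : F4, μ • tvU (hiso e) 1 (L (C.vec f)) = L (C.vec ((e : G) * f * (e : G)⁻¹))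
    rw [tvU_apply, one_mul, hL]
    by_cases hef : Commute (e : G) f
    · refine ⟨1, ?_⟩
      rw [(C.commute_iff_perp e.2 f.2).1 hef, zero_smul, add_zero, one_smul, hef.eq, mul_inv_cancel_right]
    set r := (e : G) * f * (e : G)⁻¹ with hr
    have hrD : r ∈ D := hc e f f.2
    have hre : r = e * f * e := by rw [hr, inv_eq hT e.2]
    have h1 := third_point hH h4 (P := C.vec f) (E := C.vec e) (R := C.vec r) (C.vec_iso f.2)
      (C.vec_iso e.2) (fun h => hef ((C.commute_iff_perp f.2 e.2).2 h).symm) (C.vec_iso hrD) ?_ ?_ ?_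
    · obtain ⟨μ, -, hμ⟩ := h1
      refine ⟨μ, ?_⟩
      rw [hμ, map_smul, map_add, map_smul]
    · intro μ h
      have h2 : r = f := C.vec_inj hrD f.2 h.symm
      apply hef
      rwa [hr, mul_inv_eq_iff_eq_mul] at h2
    · intro μ h
      have h2 : r = e := C.vec_inj hrD e.2 h.symm
      refine hef ?_
      rw [hr, mul_inv_eq_iff_eq_mul] at h2
      rw [mul_left_cancel h2]
    · intro X hX0 hXX h1 h2
      obtain ⟨z, hz, μ, rfl⟩ := C.vec_surj hX0 hXX
      simp only [LinearMap.map_smulₛₗ, LinearMap.smul_apply, smul_eq_mul, mul_eq_zero] at h1 h2 ⊢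
      rcases h1 with h1 | h1
      · exact Or.inl h1
      rcases h2 with h2 | h2
      · exact Or.inl h2
      refine Or.inr ((C.commute_iff_perp hz hrD).1 ?_)
      rw [hre]
      exact (((C.commute_iff_perp hz e.2).2 h2).mul_right ((C.commute_iff_perp hz f.2).2 h1)).mul_right
        ((C.commute_iff_perp hz e.2).2 h2)
  have hψinj : Function.Injective ψ := by
    refine (injective_iff_map_eq_one ψ).2 fun g hg => ?_
    have hall : ∀ e ∈ D, Commute g e := fun e he => by
      have h1 := hψ g ⟨e, he⟩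
      rw [hg] at h1
      have h2 := congrArg Subtype.val (hΦ.1 h1)
      exact (mul_inv_eq_iff_eq_mul.1 h2.symm)
    have hz : g ∈ Subgroup.center G :=
      Subgroup.mem_center_iff.2 fun w => (commute_all C.hyp.cls.2.2 hall w).eq.symm
    rw [C.hyp.hsol (Subgroup.center G) inferInstance
      (Group.isSolvable_of_comm fun p q => Subtype.ext (Subgroup.mem_center_iff.1 q.2 p)),
      Subgroup.mem_bot] at hz
    exact hz
  have hrange : ψ.range = ρ.range := by
    refine le_antisymm ?_ ?_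
    · rw [MonoidHom.range_eq_map, ← C.hyp.cls.2.2, MonoidHom.map_closure, Subgroup.closure_le]
      rintro _ ⟨e, he, rfl⟩
      exact ⟨τ ⟨e, he⟩, (hτ ⟨e, he⟩).symm⟩
    · rintro _ ⟨g, rfl⟩
      have hfr : finrank F4 (Fin n → F4) = n := Module.finrank_fin_fun F4
      have hg : (g : (Fin n → F4) ≃ₗ[F4] (Fin n → F4)) ∈ TUon B' ⊤ := by
        rw [suG_eq_TUon hH' (by omega) (Or.inr (by omega))]; exact g.2
      have hle : TUon B' ⊤ ≤ (ψ.range.comap ρ).map (suG B').subtype := by
        refine (Subgroup.closure_le _).2 ?_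
        rintro t ⟨v, -, c, hv, hcc, ht⟩
        have triv : (∀ x, t x = x) → t ∈ (ψ.range.comap ρ).map (suG B').subtype := fun h => by
          rw [show t = 1 from LinearEquiv.ext h]; exact one_mem _
        have hc01 : c = 0 ∨ c = 1 := f4_fix c (by linear_combination hcc - f4_two c)
        rcases hc01 with rfl | rfl
        · exact triv fun x => by simp [ht]
        rcases eq_or_ne v 0 with rfl | hv0
        · exact triv fun x => by simp [ht]
        obtain ⟨f, hf⟩ := hΦ.2 (Herm.pt v hv0 hv)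
        obtain ⟨μ, hμ⟩ := (pt_eq_iff _ _ _ _).1 hf.symm
        refine ⟨τ f, ⟨f, hτ f⟩, LinearEquiv.ext fun x => ?_⟩
        show tvU (hiso f) 1 x = t x
        have hμ0 : μ ≠ 0 := fun h0 => hv0 (by rw [← hμ, h0, zero_smul])
        rw [tvU_apply, ht, ← hμ]
        simp only [one_mul, LinearMap.map_smulₛₗ, LinearMap.smul_apply, smul_eq_mul, smul_smul]
        congr 2
        rw [mul_right_comm, f4_norm μ hμ0, one_mul]
      obtain ⟨h, hh, hhg⟩ := hle hg
      rw [← Subtype.ext hhg]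
      exact hh
  have hker : ρ.ker = Subgroup.center (suG B') := by
    refine le_antisymm (fun g hg => ?_) fun g hg => ?_
    · obtain ⟨μ, hμ⟩ := scalar_of_fix_iso hH' (by rw [Module.finrank_fin_fun]; omega) (g := g)
        fun p => Equiv.ext_iff.1 (MonoidHom.mem_ker.1 hg) p
      exact scalar_mem_center hH' hμ
    · rw [MonoidHom.mem_ker]
      exact Equiv.ext fun p => center_fix_iso hH' hg p
  let e1 : G ≃* suG B' ⧸ Subgroup.center (suG B') :=
    ((MonoidHom.ofInjective hψinj).trans (MulEquiv.subgroupCongr hrange)).trans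
      ((QuotientGroup.quotientKerEquivRange ρ).symm.trans (QuotientGroup.quotientMulEquivOfEq hker))
  let su := suEquiv (σ := F4.frob) n F4.frob_pow
  have hcen : (Subgroup.center (suG B')).map (su.symm : suG B' →* Cfsg.SU n F4 2) =
      Subgroup.center (Cfsg.SU n F4 2) := by
    apply le_antisymm
    · rintro _ ⟨g, hg, rfl⟩
      exact Subgroup.mem_center_iff.2 fun z => su.injective (by
        simp only [map_mul, MonoidHom.coe_coe, MulEquiv.apply_symm_apply]
        exact Subgroup.mem_center_iff.1 hg _)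
    · intro z hz
      refine ⟨su z, Subgroup.mem_center_iff.2 fun w => ?_, by simp⟩
      obtain ⟨w', rfl⟩ := su.surjective w
      rw [← map_mul, ← map_mul, Subgroup.mem_center_iff.1 hz]
  let d₀ : D := ⟨a, C.base.ha⟩
  refine ⟨n, by omega, e1.trans (QuotientGroup.congr _ _ su.symm hcen), a, C.base.ha, su.symm (τ d₀), ?_, ?_⟩
  · refine rank_of_oneDir (hne d₀) (φ := B' (L (C.vec (d₀ : G)))) (exists_pairing hH' (hne d₀)) fun x => ?_
    show ((su.symm (τ d₀)).1 : Matrix (Fin n) (Fin n) F4).mulVec x = _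
    rw [← suEquiv_apply F4.frob_pow, MulEquiv.apply_symm_apply]
    show tvU (hiso d₀) 1 x = _
    rw [tvU_apply, one_mul]
  · have h1 : e1 a = ((τ d₀ : suG B') : suG B' ⧸ Subgroup.center (suG B')) := by
      have h2 : ((MonoidHom.ofInjective hψinj).trans (MulEquiv.subgroupCongr hrange)) a =
          QuotientGroup.quotientKerEquivRange ρ (τ d₀ : suG B' ⧸ ρ.ker) := Subtype.ext (hτ d₀)
      simp only [e1, MulEquiv.trans_apply] at h2 ⊢
      rw [h2, MulEquiv.symm_apply_apply]
      rfl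
    rw [MulEquiv.trans_apply, h1]
    rfl

theorem exists_psu : ∃ (F : Type) (_ : Field F) (_ : Fintype F) (n : ℕ),
    Fintype.card F = 4 ∧ Nonempty (G ≃* Cfsg.PSU n F 2) := by
  obtain ⟨n, -, e, -⟩ := C.exists_psu_class
  exact ⟨F4, inferInstance, inferInstance, n, F4.card_eq, ⟨e⟩⟩

end Coord

end Cfsg.Agent.ThreeTrans.SpPSU
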