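import Cfsg.Agent.ThreeTrans.SpPSU.Lines

/-!
# A pair of noncommuting members

The members commuting with both are representatives of the lines through the first one; the group
generated by the first and its partners is transitive on its non-partners; lines have three or five
members.
-/

set_option autoImplicit false

open Cfsg

namespace Cfsg.Agent.ThreeTrans.SpPSU

variable {G : Type*} [Group G] {D : Set G} {x y z a b b' c d e f f' g h i j k p p' s s' u v : G}

/-- The line through `a` and `i` without `a`. -/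
def fib (D : Set G) (a i : G) : Set G := line D a i \ {a}

/-- The group generated by `a` and the members commuting with it. -/
def cen (D : Set G) (a : G) : Subgroup G := Subgroup.closure (insert a (dperp D a))

variable [Finite G]

/-- A noncommuting pair. -/
structure Base (D : Set G) (a d : G) : Prop where
  hyp : Hyp D
  ha : a ∈ D
  hd : d ∈ D
  hnc : ¬ Commute a d

namespace Hyp

variable (S : Hyp D)
include S

omit [Finite G] S in
theorem self_mem_fib (hi : i ∈ dperp D a) : i ∈ fib D a i := ⟨mem_right hi.1, hi.2.1⟩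

omit [Finite G] S in
theorem fib_dperp (ha : a ∈ D) (hi : i ∈ dperp D a) (hs : s ∈ fib D a i) : s ∈ dperp D a :=
  ⟨hs.1.1, hs.2, line_commute ha hi (mem_left ha) hs.1⟩

theorem fib_line (ha : a ∈ D) (hi : i ∈ dperp D a) (hs : s ∈ fib D a i) :
    line D a s = line D a i :=
  S.line_eq ha hi (mem_left ha) hs.1 (Ne.symm hs.2)

theorem commute_fib (ha : a ∈ D) (hi : i ∈ dperp D a) (hs : s ∈ fib D a i) (hg : g ∈ dperp D a) :
    Commute g s ↔ Commute g i := by
  constructor
  · exact fun h => S.commute_of_two ha hi (mem_left ha) hs.1 (Ne.symm hs.2) hg.1 hg.2.2.symm h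
      (mem_right hi.1)
  · exact fun h => S.commute_of_two ha hi (mem_left ha) (mem_right hi.1) (Ne.symm hi.2.1) hg.1
      hg.2.2.symm h hs.1

theorem commute_fib_fib (ha : a ∈ D) (hi : i ∈ dperp D a) (hk : k ∈ dperp D a) (hs : s ∈ fib D a i)
    (hs' : s' ∈ fib D a k) : Commute s s' ↔ Commute i k := by
  rw [S.commute_fib ha hk hs' (fib_dperp ha hi hs), Commute.symm_iff, S.commute_fib ha hi hs hk,
    Commute.symm_iff]

theorem fib_move (ha : a ∈ D) (hi : i ∈ dperp D a) (hk : k ∈ dperp D a) (hik : ¬ Commute i k)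
    (hs : s ∈ fib D a i) (hs' : s' ∈ fib D a i) (hg : g ∈ fib D a k) :
    s * (s' * g * s') * s ∈ fib D a k := by
  have hsd := fib_dperp ha hi hs
  have hgd := fib_dperp ha hk hg
  have hnc : ¬ Commute s g := fun h => hik ((S.commute_fib_fib ha hi hk hs hg).1 h)
  have hs'' : s' ∈ line D a s := (S.fib_line ha hi hs).symm ▸ hs'.1
  have h1 := S.move ha hsd hs'' hs'.2 hgd hnc
  exact ⟨S.fib_line ha hk hg ▸ h1.1, h1.2.1⟩

end Hyp

namespace Base

variable (B : Base D a d)
include B

theorem change (hp : p ∈ D) (hap : ¬ Commute a p) : Base D a p := ⟨B.hyp, B.ha, hp, hap⟩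

omit [Finite G] in
theorem rep_dperp (hi : i ∈ perp2 D a d) : i ∈ dperp D a :=
  ⟨hi.1, fun h => B.hnc (h ▸ hi.2.2), hi.2.1.symm⟩

theorem exists_pt (hi : i ∈ dperp D a) : ∃ s ∈ fib D a i, Commute d s := by
  obtain ⟨s, hs, hds⟩ := B.hyp.exists_commute_line B.ha hi B.hd
  exact ⟨s, ⟨hs, fun h => B.hnc (h ▸ hds).symm⟩, hds⟩

theorem unique_pt (hi : i ∈ dperp D a) (hu : u ∈ fib D a i) (hv : v ∈ fib D a i)
    (h1 : Commute d u) (h2 : Commute d v) : u = v := by
  by_contra hne
  exact B.hnc (B.hyp.commute_of_two B.ha hi hu.1 hv.1 hne B.hd h1 h2 (mem_left B.ha)).symm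

theorem exists_rep (hg : g ∈ dperp D a) : ∃ i ∈ perp2 D a d, g ∈ fib D a i := by
  obtain ⟨i, hi, hdi⟩ := B.exists_pt hg
  have hid := Hyp.fib_dperp B.ha hg hi
  refine ⟨i, ⟨hi.1.1, hid.2.2.symm, hdi.symm⟩, ?_, hg.2.1⟩
  rw [B.hyp.fib_line B.ha hg hi]
  exact mem_right hg.1

theorem rep_unique (hi : i ∈ perp2 D a d) (hk : k ∈ perp2 D a d) (h : k ∈ line D a i) : k = i :=
  B.unique_pt (B.rep_dperp hi) ⟨h, (B.rep_dperp hk).2.1⟩ (Hyp.self_mem_fib (B.rep_dperp hi))
    hk.2.2.symm hi.2.2.symm

theorem rep_not_fib (hi : i ∈ perp2 D a d) (hs : s ∈ fib D a i) (hne : s ≠ i) : ¬ Commute d s :=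
  fun h => hne (B.unique_pt (B.rep_dperp hi) hs (Hyp.self_mem_fib (B.rep_dperp hi)) h hi.2.2.symm)

theorem exists_nc_rep (hi : i ∈ perp2 D a d) : ∃ k ∈ perp2 D a d, ¬ Commute i k := by
  obtain ⟨b, hb, hib⟩ := B.hyp.exists_nc_dperp B.ha (B.rep_dperp hi)
  obtain ⟨k, hk, hbk⟩ := B.exists_rep hb
  exact ⟨k, hk, fun h => hib ((B.hyp.commute_fib B.ha (B.rep_dperp hk) hbk (B.rep_dperp hi)).2 h)⟩

theorem exists_rep_mem : (perp2 D a d).Nonempty := by
  obtain ⟨b, hb⟩ := B.hyp.exists_dperp B.ha
  obtain ⟨k, hk, -⟩ := B.exists_rep hb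
  exact ⟨k, hk⟩

theorem rep_conj (hi : i ∈ perp2 D a d) (hk : k ∈ perp2 D a d) : i * k * i ∈ perp2 D a d := by
  refine ⟨B.hyp.mem_conj hi.1 hk.1, ?_, ?_⟩
  · exact (hi.2.1.mul_left hk.2.1).mul_left hi.2.1
  · exact (hi.2.2.mul_left hk.2.2).mul_left hi.2.2

/-- The noncommuting graph of the representatives has diameter two. -/
theorem rep_near (hi : i ∈ perp2 D a d) (hk : k ∈ perp2 D a d) :
    i = k ∨ ¬ Commute i k ∨
      ∃ j ∈ perp2 D a d, ¬ Commute i j ∧ ¬ Commute j k := by
  suffices key : ∀ g, g ∈ dperp D a → ∀ l ∈ perp2 D a d, g ∈ fib D a l →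
      (i = l ∨ ¬ Commute i l ∨ ∃ j ∈ perp2 D a d, ¬ Commute i j ∧ ¬ Commute j l) from
    key k (B.rep_dperp hk) k hk (Hyp.self_mem_fib (B.rep_dperp hk))
  have hid := B.rep_dperp hi
  intro g hg
  rw [← dcomp_eq_dperp (fun N hN _ hs => B.hyp.hsol N hN hs) B.hyp.hperf B.hyp.cls B.ha hid] at hg
  induction hg with
  | refl =>
    intro l hl hil
    exact Or.inl (B.rep_unique hl hi hil.1)
  | tail hgu huv ih =>
    rename_i u v
    intro l hl hvl
    obtain ⟨p, hp, hup⟩ := B.exists_rep huv.1.1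
    have hpl : ¬ Commute p l := fun h =>
      huv.2 ((B.hyp.commute_fib_fib B.ha (B.rep_dperp hp) (B.rep_dperp hl) hup hvl).2 h)
    rcases ih p hp hup with rfl | hip | ⟨q, hq, hiq, hqp⟩
    · exact Or.inr (Or.inl hpl)
    · exact Or.inr (Or.inr ⟨p, hp, hip, hpl⟩)
    by_cases h1 : Commute i p
    swap; · exact Or.inr (Or.inr ⟨p, hp, h1, hpl⟩)
    by_cases h2 : Commute q l
    swap; · exact Or.inr (Or.inr ⟨q, hq, hiq, h2⟩)
    refine Or.inr (Or.inr ⟨p * q * p, B.rep_conj hp hq, fun h => hiq ?_, fun h => hpl ?_⟩)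
    · have h3 := (commute_conj p _ _).2 h
      rw [h1.symm.eq, mul_inv_cancel_right, inv_eq B.hyp.hT hp.1] at h3
      simpa only [mul_assoc, mul_self_mul B.hyp.hT hp.1, B.hyp.sq hp.1, mul_one] using h3
    · rw [braid B.hyp.hT hp.1 hq.1 fun e => hqp e.symm] at h
      have h3 := (commute_conj q _ _).2 h
      rw [h2.eq, mul_inv_cancel_right, inv_eq B.hyp.hT hq.1] at h3
      simpa only [mul_assoc, mul_self_mul B.hyp.hT hq.1, B.hyp.sq hq.1, mul_one] using h3

theorem cen_commute (hg : g ∈ cen D a) : Commute g a := by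
  have hle : cen D a ≤ Subgroup.centralizer ({a} : Set G) := by
    refine (Subgroup.closure_le _).2 ?_
    rintro e (rfl | he)
    · exact Subgroup.mem_centralizer_singleton_iff.2 rfl
    · exact Subgroup.mem_centralizer_singleton_iff.2 he.2.2.eq.symm
  exact Subgroup.mem_centralizer_singleton_iff.1 (hle hg)

omit [Finite G] B in
theorem self_mem_cen : a ∈ cen D a := Subgroup.subset_closure (Set.mem_insert _ _)

omit [Finite G] B in
theorem dperp_mem_cen (hs : s ∈ dperp D a) : s ∈ cen D a :=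
  Subgroup.subset_closure (Set.mem_insert_of_mem _ hs)

theorem orb_mem (hg : g ∈ cen D a) : g * d * g⁻¹ ∈ D ∧ ¬ Commute a (g * d * g⁻¹) := by
  refine ⟨B.hyp.hc g d B.hd, fun h => B.hnc ?_⟩
  have hga : g * a * g⁻¹ = a := by rw [(B.cen_commute hg).eq, mul_inv_cancel_right]
  rw [← hga] at h
  exact (commute_conj g a d).1 h

/-- The group of `a` and its partners is transitive on the non-partners of `a`. -/
theorem transitive (hp : p ∈ D) (hap : ¬ Commute a p) : ∃ g ∈ cen D a, g * d * g⁻¹ = p := by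
  let O : G → Prop := fun p => ∃ g ∈ cen D a, g * d * g⁻¹ = p
  change O p
  have S := B.hyp
  have hT := S.hT
  have step : ∀ {u q}, O u → q ∈ cen D a → O (q * u * q⁻¹) := by
    rintro _ q ⟨g, hg, rfl⟩ hq
    exact ⟨q * g, mul_mem hq hg, by group⟩
  have step' : ∀ {u q}, O u → q ∈ dperp D a → O (q * u * q) := by
    intro u q hu hq
    have := step hu (dperp_mem_cen hq)
    rwa [inv_eq hT hq.1] at this
  -- closed under commuting
  have comm : ∀ {u w}, O u → w ∈ D → ¬ Commute a w → Commute u w → O w := by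
    intro u w hu hw haw huw
    obtain ⟨g, hg, hgu⟩ := id hu
    obtain ⟨huD, hau⟩ := B.orb_mem hg
    rw [hgu] at huD hau
    rcases eq_or_ne w u with rfl | hne
    · exact hu
    have hwu : w ∈ dperp D u := ⟨hw, hne, huw⟩
    obtain ⟨f, hf, haf⟩ := S.exists_commute_line huD hwu B.ha
    have hfu : f ≠ u := fun e => hau (e ▸ haf)
    have hfa : f ≠ a := fun e => hau (e ▸ Hyp.line_commute huD hwu hf (mem_left huD))
    have hu_f : u ∈ dperp D f := ⟨huD, hfu.symm, Hyp.line_commute huD hwu hf (mem_left huD)⟩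
    have hwf : w ∈ line D f u := by
      rw [S.line_eq huD hwu hf (mem_left huD) hfu]; exact mem_right hw
    have ha_f : a ∈ dperp D f := ⟨B.ha, hfa.symm, haf.symm⟩
    obtain ⟨a', ha', hne', rfl⟩ := S.move_surj hf.1 ha_f hu_f hau hwf fun e => haw (e ▸ haf)
    have ha'K : a' ∈ cen D a := by
      rcases eq_or_ne a' a with rfl | h'
      · exact self_mem_cen
      · exact dperp_mem_cen ⟨ha'.1, h', Hyp.line_commute hf.1 ha_f (mem_right B.ha) ha'⟩
    have h1 := step (step hu ha'K) (self_mem_cen (D := D) (a := a))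
    rwa [inv_eq hT ha'.1, inv_eq hT B.ha] at h1
  have third : ∀ {u w x}, O u → O (u * w * u) → u ∈ D → w ∈ D → ¬ Commute u w → x ∈ dperp D a →
      Commute x u → ¬ Commute x w → ¬ Commute a w → O w := by
    intro u w x _ hr huD hwD huw hx hxu hxw haw
    have hwx : O (x * w * x) := by
      refine comm hr (S.mem_conj hx.1 hwD) (fun h => haw ?_) ?_
      · have h1 := (commute_conj x _ _).2 h
        rw [hx.2.2.symm.eq, mul_inv_cancel_right, inv_eq hT hx.1] at h1
        simpa only [mul_assoc, mul_self_mul hT hx.1, S.sq hx.1, mul_one] using h1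
      · rw [braid hT huD hwD huw, braid hT hx.1 hwD hxw]
        have h1 := (commute_conj w u x).2 hxu.symm
        rwa [inv_eq hT hwD] at h1
    have := step' hwx hx
    simpa only [mul_assoc, mul_self_mul hT hx.1, S.sq hx.1, mul_one] using this
  -- a member outside has the trace of every member inside
  have trace : ∀ u, O u → ∀ w, w ∈ D → ¬ Commute a w → ¬ O w →
      ∀ x ∈ dperp D a, Commute x u → Commute x w := by
    intro u hu w hw haw hnO x hx hxu
    obtain ⟨g, hg, hgu⟩ := id hu
    obtain ⟨huD, hau⟩ := B.orb_mem hg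
    rw [hgu] at huD hau
    by_contra hxw
    have huw : ¬ Commute u w := fun h => hnO (comm hu hw haw h)
    obtain ⟨y, hy, hyw, hyu⟩ : ∃ y ∈ dperp D a, Commute y w ∧ ¬ Commute y u := by
      obtain ⟨y, hy, hwy⟩ := (B.change hw haw).exists_pt hx
      refine ⟨y, Hyp.fib_dperp B.ha hx hy, hwy.symm, fun h => ?_⟩
      exact hxw ((B.change huD hau).unique_pt hx hy (Hyp.self_mem_fib hx) h.symm hxu.symm ▸ hwy.symm)
    have hw_eq : ∀ r, r ∈ D → u * w * u = r → w = r * u * r := by
      intro r hr he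
      have hnc : ¬ Commute u r := fun e => huw (by
        have h2 : u * r * u = w := by rw [← he]; simp only [mul_assoc, mul_self_mul hT huD, S.sq huD, mul_one]
        rw [← h2, conj_self_of_commute hT huD e]; exact e)
      rw [← braid hT huD hr hnc, ← he]
      simp only [mul_assoc, mul_self_mul hT huD, S.sq huD, mul_one]
    have hr : ¬ Commute a (u * w * u) := by
      intro h
      rcases eq_or_ne (u * w * u) a with he | hne
      · have h1 := step hu (self_mem_cen (D := D) (a := a))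
        rw [inv_eq hT B.ha, ← hw_eq a B.ha he] at h1
        exact hnO h1
      · have h1 := step' hu (⟨S.mem_conj huD hw, hne, h⟩ : u * w * u ∈ dperp D a)
        rw [← hw_eq _ (S.mem_conj huD hw) rfl] at h1
        exact hnO h1
    have hrO : O (u * w * u) := by
      have hyuy := step' hu hy
      refine comm hyuy (S.mem_conj huD hw) hr ?_
      rw [braid hT hy.1 huD hyu]
      have h1 := (commute_conj u y w).2 hyw
      rwa [inv_eq hT huD] at h1
    exact hnO (third hu hrO huD hw huw hx hxu hxw haw)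
  by_contra hnO
  have hdO : O d := ⟨1, one_mem _, by group⟩
  obtain ⟨i, hi⟩ := B.exists_rep_mem
  obtain ⟨k, hk, hik⟩ := B.exists_nc_rep hi
  obtain ⟨s, hs, hsa, hsi⟩ := S.exists_third B.ha (B.rep_dperp hi)
  have hsd : s ∈ dperp D a := Hyp.fib_dperp B.ha (B.rep_dperp hi) ⟨hs, hsa⟩
  have hds : ¬ Commute d s := B.rep_not_fib hi ⟨hs, hsa⟩ hsi
  have hks : ¬ Commute k s := fun h =>
    hik ((S.commute_fib B.ha (B.rep_dperp hi) ⟨hs, hsa⟩ (B.rep_dperp hk)).1 h).symm
  have hkp := trace d hdO p hp hap hnO k (B.rep_dperp hk) hk.2.2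
  obtain ⟨h, hh, hph⟩ : ∃ h ∈ fib D a k, Commute (s * d * s) h := by
    obtain ⟨h1, h2⟩ := B.orb_mem (dperp_mem_cen hsd)
    rw [inv_eq hT hsd.1] at h1 h2
    exact (B.change h1 h2).exists_pt (B.rep_dperp hk)
  have hhp := trace _ (step' hdO hsd) p hp hap hnO h (Hyp.fib_dperp B.ha (B.rep_dperp hk) hh) hph.symm
  obtain rfl := (B.change hp hap).unique_pt (B.rep_dperp hk) hh (Hyp.self_mem_fib (B.rep_dperp hk))
    hhp.symm hkp.symm
  refine hks ?_
  rw [braid hT hsd.1 B.hd fun e => hds e.symm] at hph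
  have h3 := (commute_conj d _ _).2 hph
  rw [hk.2.2.symm.eq, mul_inv_cancel_right, inv_eq hT B.hd] at h3
  exact (by simpa only [mul_assoc, mul_self_mul hT B.hd, B.hyp.sq B.hd, mul_one] using h3 :
    Commute s h).symm

theorem eq_one_of_commute (hza : Commute z a) (hzd : Commute z d)
    (h : ∀ g ∈ dperp D a, Commute z g) : z = 1 := by
  have hcen : ∀ g ∈ cen D a, Commute z g := by
    intro g hg
    have hle : cen D a ≤ Subgroup.centralizer ({z} : Set G) := by
      refine (Subgroup.closure_le _).2 ?_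
      rintro e (rfl | he)
      · exact Subgroup.mem_centralizer_singleton_iff.2 hza.eq.symm
      · exact Subgroup.mem_centralizer_singleton_iff.2 (h e he).eq.symm
    exact (Subgroup.mem_centralizer_singleton_iff.1 (hle hg) : Commute g z).symm
  have hall : ∀ e ∈ D, Commute z e := by
    intro e he
    by_cases hae : Commute a e
    · rcases eq_or_ne e a with rfl | hne
      · exact hza
      · exact h e ⟨he, hne, hae⟩
    · obtain ⟨g, hg, rfl⟩ := B.transitive he hae
      exact ((hcen g hg).mul_right hzd).mul_right (hcen g hg).inv_right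
  have hz : z ∈ Subgroup.center G :=
    Subgroup.mem_center_iff.2 fun w => (commute_all B.hyp.cls.2.2 hall w).eq.symm
  rw [B.hyp.hsol (Subgroup.center G) inferInstance
    (Group.isSolvable_of_comm fun p q => Subtype.ext (Subgroup.mem_center_iff.1 q.2 p)), Subgroup.mem_bot] at hz
  exact hz

end Base

namespace Hyp

variable (S : Hyp D)
include S

/-- Five distinct members of a line multiply to one. -/
theorem prod_five (hx : x ∈ D) (ha : a ∈ dperp D x) (hb : b ∈ line D x a) (hb' : b' ∈ line D x a)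
    (hf : f ∈ line D x a) (hbx : b ≠ x) (hba : b ≠ a) (hb'x : b' ≠ x) (hb'a : b' ≠ a)
    (hfx : f ≠ x) (hfa : f ≠ a) (hbb' : b ≠ b') (hbf : b ≠ f) (hb'f : b' ≠ f) :
    x * b * b' * f * a = 1 := by
  have hT := S.hT
  obtain ⟨c, hc, hac⟩ := S.exists_nc_dperp hx ha
  have hxa : x ∈ dperp D a := ⟨hx, Ne.symm ha.2.1, ha.2.2.symm⟩
  have L : ∀ {u v}, u ∈ line D x a → v ∈ line D x a → Commute u v := fun hu hv => line_commute hx ha hu hv
  have hnc : ∀ u ∈ line D x a, u ≠ x → ¬ Commute u c := fun u hu hux =>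
    (S.move hx ha hu hux hc hac).2.2
  have hdp : ∀ u ∈ line D x a, u ≠ x → u ∈ dperp D x := fun u hu hux =>
    ⟨hu.1, hux, L (mem_left hx) hu⟩
  have hl : ∀ u ∈ line D x a, u ≠ x → line D x u = line D x a := fun u hu hux =>
    S.line_eq hx ha (mem_left hx) hu (Ne.symm hux)
  obtain ⟨hm, hmx, -⟩ := S.move hx (hdp b hb hbx) ((hl b hb hbx).symm ▸ hb') hb'x hc (hnc b hb hbx)
  obtain ⟨f', hf', hf'x, heq⟩ := S.move_surj hx (hdp f hf hfx) hc (hnc f hf hfx) hm hmx
  rw [hl f hf hfx] at hf'
  have hf'f : f' ≠ f := fun e => by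
    subst e
    refine S.move_ne hb.1 hb'.1 hc.1 hbb'.symm (hnc b hb hbx) (hnc b' hb' hb'x) ?_
    rw [← heq]
    simp only [mul_assoc, mul_self_mul hT hf.1, S.sq hf.1, mul_one]
  have hf'b : f' ≠ b := fun e => by
    subst e
    refine hb'f (S.move_inj hb'.1 hf.1 hc.1 (hnc b' hb' hb'x) (hnc f hf hfx) ?_)
    have h1 : f * f' = f' * f := (L hf hb).eq
    rw [show f * (f' * c * f') * f = (f * f') * c * (f' * f) by simp only [mul_assoc], h1] at heq
    nth_rw 2 [← h1] at heq
    refine mul_left_cancel (a := f') (mul_right_cancel (b := f') ?_)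
    rw [← heq]
    simp only [mul_assoc]
  have hf'b' : f' ≠ b' := fun e => by
    subst e
    refine hbf (S.move_inj hb.1 hf.1 hc.1 (hnc b hb hbx) (hnc f hf hfx) ?_)
    have h1 : b * f' = f' * b := (L hb hb').eq
    rw [show b * (f' * c * f') * b = (b * f') * c * (f' * b) by simp only [mul_assoc], h1] at heq
    nth_rw 2 [← h1] at heq
    refine mul_left_cancel (a := f') (mul_right_cancel (b := f') ?_)
    have h2 : f * f' = f' * f := (L hf hb').eq
    rw [show f * (f' * c * f') * f = (f * f') * c * (f' * f) by simp only [mul_assoc], h2] at heq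
    nth_rw 2 [← h2] at heq
    calc f' * (b * c * b) * f' = f' * b * c * (b * f') := by simp only [mul_assoc]
      _ = f' * f * c * (f * f') := heq.symm
      _ = f' * (f * c * f) * f' := by simp only [mul_assoc]
  have B : Base D a c := ⟨S, ha.1, hc.1, hac⟩
  have hfib : ∀ u ∈ line D x a, u ≠ a → u ∈ fib D a x := fun u hu hua => ⟨line_swap (D := D) ▸ hu, hua⟩
  have fix : ∀ q : G, Commute q c → (∀ g ∈ D, Commute g x → Commute g a → Commute q g) →
      (∀ j ∈ perp2 D a c, ¬ Commute x j → q * j * q⁻¹ ∈ fib D a j) → q = 1 := by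
    intro q hqc hq1 hq2
    have hqa : Commute q a := hq1 a ha.1 ha.2.2.symm (Commute.refl a)
    have hqj : ∀ j ∈ perp2 D a c, Commute q j := fun j hj => by
      by_cases hxj : Commute x j
      · exact hq1 j hj.1 hxj.symm hj.2.1
      · have hj' : Commute c (q * j * q⁻¹) := by
          have := (commute_conj q c j).2 hj.2.2.symm
          rwa [hqc.eq, mul_inv_cancel_right] at this
        have := B.unique_pt (B.rep_dperp hj) (hq2 j hj hxj) (self_mem_fib (B.rep_dperp hj)) hj'
          hj.2.2.symm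
        rwa [mul_inv_eq_iff_eq_mul] at this
    refine B.eq_one_of_commute hqa hqc fun g hg => ?_
    obtain ⟨j, hj, hgj⟩ := B.exists_rep hg
    by_cases hxj : Commute x j
    · exact hq1 g hg.1 ((S.commute_fib B.ha (B.rep_dperp hj) hgj hxa).2 hxj).symm hg.2.2.symm
    · obtain ⟨a', ha', ha'a, rfl⟩ := S.move_surj B.ha hxa (B.rep_dperp hj) hxj hgj.1 hgj.2
      rw [line_swap] at ha'
      have h1 : Commute q x := hq1 x hx (Commute.refl x) ha.2.2
      have h2 : Commute q a' := hq1 a' ha'.1 (L ha' (mem_left hx)) (L ha' (mem_right ha.1))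
      exact (h1.mul_right ((h2.mul_right (hqj j hj)).mul_right h2)).mul_right h1
  have hsq : ∀ u v : G, u ∈ line D x a → v ∈ line D x a → u * v * (u * v) = 1 := fun u v hu hv => by
    rw [mul_assoc, ← mul_assoc v u, ← (L hu hv).eq, mul_assoc u v, mul_self_mul hT hu.1, S.sq hv.1]
  have hcom : ∀ g ∈ D, Commute g x → Commute g a → ∀ u ∈ line D x a, Commute g u :=
    fun g hg h1 h2 u hu => hu.2 g ⟨hg, h1, h2⟩
  have hzc : Commute (b * b' * f * f') c := by
    show b * b' * f * f' * c = c * (b * b' * f * f')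
    have h1 : b * b' * f * f' * c * (f' * f * (b' * b)) = c := by
      calc b * b' * f * f' * c * (f' * f * (b' * b))
          = b * b' * (f * (f' * c * f') * f) * (b' * b) := by simp only [mul_assoc]
        _ = b * b' * (b * (b' * c * b') * b) * (b' * b) := by rw [heq]
        _ = b * b' * (b * b') * c * (b' * b * (b' * b)) := by simp only [mul_assoc]
        _ = c := by rw [hsq b b' hb hb', hsq b' b hb' hb, one_mul, mul_one]
    calc b * b' * f * f' * c
        = b * b' * f * f' * c * (f' * f * (b' * b)) * (b * b' * f * f') := by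
          simp only [mul_assoc, mul_self_mul hT hb.1, mul_self_mul hT hb'.1, mul_self_mul hT hf.1,
            S.sq hf'.1, mul_one]
      _ = c * (b * b' * f * f') := by rw [h1]
  have hzinv : ∀ j : G, b * b' * f * f' * j * (b * b' * f * f')⁻¹ = b * (b' * (f * (f' * j * f') * f) * b') * b := by
    intro j
    simp only [mul_inv_rev, inv_eq hT hb.1, inv_eq hT hb'.1, inv_eq hT hf.1, inv_eq hT hf'.1, mul_assoc]
  by_cases hf'a : f' = a
  · subst hf'a
    refine fix _ ?_ ?_ ?_
    · rw [show x * b * b' * f * f' = x * (b * b' * f * f') by simp only [mul_assoc]]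
      exact hc.2.2.mul_left hzc
    · intro g hg h1 h2
      exact ((((h1.symm.mul_left (hcom g hg h1 h2 b hb).symm).mul_left (hcom g hg h1 h2 b' hb').symm).mul_left
        (hcom g hg h1 h2 f hf).symm).mul_left h2.symm)
    · intro j hj hxj
      rw [show x * b * b' * f * f' * j * (x * b * b' * f * f')⁻¹ =
          x * (b * (b' * (f * (f' * j * f') * f) * b') * b) * x by
        rw [← hzinv]; simp only [mul_inv_rev, inv_eq hT hx, mul_assoc],
        conj_self_of_commute hT ha.1 hj.2.1.symm]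
      exact S.fib_move ha.1 hxa (B.rep_dperp hj) hxj (self_mem_fib hxa) (hfib b hb hba)
        (S.fib_move ha.1 hxa (B.rep_dperp hj) hxj (hfib b' hb' hb'a) (hfib f hf hfa)
          (self_mem_fib (B.rep_dperp hj)))
  · exfalso
    have h1 : b * b' * f * f' = 1 := by
      refine fix _ hzc ?_ ?_
      · intro g hg h1 h2
        exact (((hcom g hg h1 h2 b hb).symm.mul_left (hcom g hg h1 h2 b' hb').symm).mul_left
          (hcom g hg h1 h2 f hf).symm).mul_left (hcom g hg h1 h2 f' hf').symm
      · intro j hj hxj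
        rw [hzinv]
        exact S.fib_move ha.1 hxa (B.rep_dperp hj) hxj (hfib b hb hba) (hfib b' hb' hb'a)
          (S.fib_move ha.1 hxa (B.rep_dperp hj) hxj (hfib f hf hfa) (hfib f' hf' hf'a)
            (self_mem_fib (B.rep_dperp hj)))
    -- a member commuting only with `b` refutes the relation
    have hab : a ∈ dperp D b := ⟨ha.1, hba.symm, L hb (mem_right ha.1)⟩
    obtain ⟨g, hg, hag⟩ := S.exists_nc_dperp hb.1 hab
    have hone : ∀ u ∈ line D x a, u ≠ b → ¬ Commute g u := fun u hu hub h =>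
      hag (S.commute_of_two hx ha hb hu hub.symm hg.1 hg.2.2.symm h (mem_right ha.1)).symm
    have hgb' := hone b' hb' hbb'.symm
    have hgf := hone f hf hbf.symm
    have hgf' := hone f' hf' hf'b
    have hb_eq : b = f' * f * b' := by
      have := mul_eq_one_iff_eq_inv.1 (show b * (b' * f * f') = 1 by rw [← h1]; simp only [mul_assoc])
      rw [this, mul_inv_rev, mul_inv_rev, inv_eq hT hb'.1, inv_eq hT hf.1, inv_eq hT hf'.1, mul_assoc]
    have h2 : Commute g (f' * f * b') := hb_eq ▸ hg.2.2.symm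
    have h3 : f * (f' * g * f') * f = b' * g * b' := by
      have e : b' * (g * (f' * f * b')) * (f' * f) = b' * (f' * f * b' * g) * (f' * f) := by rw [h2.eq]
      have c1 : Commute b' f' := L hb' hf'
      have c2 : Commute b' f := L hb' hf
      have c3 : Commute f f' := L hf hf'
      have e2 : b' * (f' * f) = f' * f * b' := (c1.mul_right c2).eq
      calc f * (f' * g * f') * f = (f' * f) * g * (f' * f) := by
            rw [show f * (f' * g * f') * f = f * f' * g * (f' * f) by simp only [mul_assoc], c3.eq]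
        _ = b' * (f' * f * b' * g) * (f' * f) := by
            rw [← mul_assoc b' (f' * f * b') g, ← mul_assoc b' (f' * f) b', e2]
            simp only [mul_assoc, mul_self_mul hT hb'.1]
        _ = b' * g * (f' * f * b' * (f' * f)) := by rw [← e]; simp only [mul_assoc]
        _ = b' * g * b' := by
            rw [mul_assoc (f' * f) b', e2, ← mul_assoc (f' * f), hsq f' f hf' hf, one_mul]
    have h4 : Commute g (f * (f' * g * f') * f) := by
      have e5 : Commute (g * f * g) (g * f' * g) := by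
        have := (commute_conj g f f').2 (L hf hf')
        rwa [inv_eq hT hg.1] at this
      rw [braid hT hg.1 hf.1 hgf, braid hT hg.1 hf'.1 hgf'] at e5
      have e6 := (commute_conj f _ _).2 e5
      rw [inv_eq hT hf.1] at e6
      simpa only [mul_assoc, mul_self_mul hT hf.1, S.sq hf.1, mul_one] using e6
    rw [h3] at h4
    exact commute_conj_mem hT hg.1 hb'.1 hgb' h4

theorem three_or_five (hx : x ∈ D) (ha : a ∈ dperp D x) :
    (line D x a).ncard = 3 ∨ (line D x a).ncard = 5 := by
  have hsub : ({x, a} : Set G) ⊆ line D x a :=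
    Set.insert_subset (mem_left hx) (Set.singleton_subset_iff.2 (mem_right ha.1))
  have hge := Set.ncard_le_ncard hsub (Set.toFinite _)
  rw [Set.ncard_pair (Ne.symm ha.2.1)] at hge
  obtain ⟨k, hk⟩ := S.odd_line hx ha
  rcases (show (line D x a).ncard = 3 ∨ (line D x a).ncard = 5 ∨ 6 ≤ (line D x a).ncard by omega) with
    h | h | h
  · exact Or.inl h
  · exact Or.inr h
  exfalso
  have h2 : 4 ≤ (line D x a \ {x, a}).ncard := by
    rw [Set.ncard_sdiff hsub (Set.toFinite _), Set.ncard_pair (Ne.symm ha.2.1)]; omega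
  obtain ⟨T, hT', hTc⟩ := Set.exists_subset_card_eq h2
  obtain ⟨b, b', f, f', hb1, hb2, hb3, hb4, hb5, hb6, rfl⟩ := Set.ncard_eq_four.1 hTc
  have m : ∀ u ∈ ({b, b', f, f'} : Set G), u ∈ line D x a ∧ u ≠ x ∧ u ≠ a := fun u hu =>
    ⟨(hT' hu).1, fun e => (hT' hu).2 (Or.inl e), fun e => (hT' hu).2 (Or.inr e)⟩
  obtain ⟨mb, mbx, mba⟩ := m b (by simp)
  obtain ⟨mb', mb'x, mb'a⟩ := m b' (by simp)
  obtain ⟨mf, mfx, mfa⟩ := m f (by simp)
  obtain ⟨mf', mf'x, mf'a⟩ := m f' (by simp)
  have e1 := S.prod_five hx ha mb mb' mf mbx mba mb'x mb'a mfx mfa hb1 hb2 hb4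
  have e2 := S.prod_five hx ha mb mb' mf' mbx mba mb'x mb'a mf'x mf'a hb1 hb3 hb5
  rw [← e2] at e1
  exact hb6 (mul_left_cancel (mul_right_cancel e1))

end Hyp

end Cfsg.Agent.ThreeTrans.SpPSU
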