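import Cfsg.Agent.ThreeTrans.SpPSU.Base

/-!
# Coordinates on the non-partners of a member

Labels of the lines through `a` by a field, compatible with the translations, embed the classes of
non-partners of `a` in a space with a Hermitian form. Counting shows that a class has two members
and that every isotropic vector comes from a line through `a`.
-/

set_option autoImplicit false

open Cfsg

namespace Cfsg.Agent.ThreeTrans.SpPSU

variable {G : Type*} [Group G] {D : Set G} {a d : G} {F : Type} [Field F]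
  {σ : F →+* F}

/-- The representatives of the lines through `a`. -/
abbrev Rep (D : Set G) (a d : G) : Type _ := ↥(perp2 D a d)

/-- Labels of the lines through `a`. -/
structure Coord [Finite G] (D : Set G) (a d : G) (F : Type) [Field F] (σ : F →+* F) where
  base : Base D a d
  H : Rep D a d → Rep D a d → F
  φ : Rep D a d → G → F
  invol : ∀ x, σ (σ x) = x
  two : ∀ x : F, x + x = 0
  herm : ∀ i k, σ (H i k) = H k i
  zero_iff : ∀ i k, H i k = 0 ↔ Commute (i : G) k
  bij : ∀ i : Rep D a d, Set.BijOn (φ i) (fib D a i) Set.univ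
  zero : ∀ i : Rep D a d, φ i i = 0
  trans : ∀ i k : Rep D a d, ¬ Commute (i : G) k → ∀ s ∈ fib D a i, ∀ g ∈ fib D a k,
    φ k ((i : G) * (s * g * s) * i) = φ k g + H k i * φ i s

open scoped _root_.Classical in
/-- A member of the line of `a` and `k` commuting with `p`. -/
noncomputable def ptOf (D : Set G) (a p k : G) : G :=
  if h : ∃ s ∈ fib D a k, Commute p s then h.choose else 1

namespace Coord

variable [Finite G] (C : Coord D a d F σ) {p p' q : G} {i k : Rep D a d}
include C

theorem hyp : Hyp D := C.base.hyp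

theorem hT : IsThreeTranspositionSet D := C.base.hyp.hT

theorem rep (i : Rep D a d) : (i : G) ∈ dperp D a := C.base.rep_dperp i.2

theorem self_fib (i : Rep D a d) : (i : G) ∈ fib D a i := Hyp.self_mem_fib (C.rep i)

theorem fib_d {s : G} (hs : s ∈ fib D a i) : s ∈ dperp D a := Hyp.fib_dperp C.base.ha (C.rep i) hs

/-- The member of the line of `k` commuting with `p`. -/
noncomputable def pt (p : G) (k : Rep D a d) : G :=
  (fun _ : Coord D a d F σ => ptOf D a p k) C

/-- The non-partners of `a`. -/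
def NP (D : Set G) (a : G) : Set G := {p | p ∈ D ∧ ¬ Commute a p}

theorem pt_spec (hp : p ∈ NP D a) (k : Rep D a d) :
    C.pt p k ∈ fib D a k ∧ Commute p (C.pt p k) := by
  have h := (C.base.change hp.1 hp.2).exists_pt (C.rep k)
  show ptOf D a p k ∈ fib D a k ∧ Commute p (ptOf D a p k)
  rw [ptOf, dif_pos h]
  exact h.choose_spec

theorem pt_unique (hp : p ∈ NP D a) {s : G} (hs : s ∈ fib D a k) (h : Commute p s) : C.pt p k = s :=
  (C.base.change hp.1 hp.2).unique_pt (C.rep k) (C.pt_spec hp k).1 hs (C.pt_spec hp k).2 h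

/-- The coordinates of a non-partner. -/
noncomputable def c (p : G) : Rep D a d → F := fun k => C.φ k (C.pt p k)

/-- The column of a representative. -/
def col (i : Rep D a d) : Rep D a d → F := fun k => C.H k i

/-- The coordinate space. -/
def U : Submodule F (Rep D a d → F) := Submodule.span F (Set.range C.col)

theorem col_mem (i : Rep D a d) : C.col i ∈ C.U := Submodule.subset_span ⟨i, rfl⟩

theorem H_self (i : Rep D a d) : C.H i i = 0 := (C.zero_iff i i).2 (Commute.refl _)

theorem d_np : d ∈ NP D a := ⟨C.base.hd, C.base.hnc⟩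

theorem c_d : C.c d = 0 := funext fun k => by
  show C.φ k (C.pt d k) = 0
  rw [C.pt_unique C.d_np (C.self_fib k) k.2.2.2.symm, C.zero]

theorem np_conj {g : G} (hg : g ∈ cen D a) (hp : p ∈ NP D a) : g * p * g⁻¹ ∈ NP D a := by
  refine ⟨C.hyp.hc g p hp.1, fun h => hp.2 ?_⟩
  have hga : g * a * g⁻¹ = a := by rw [(C.base.cen_commute hg).eq, mul_inv_cancel_right]
  rw [← hga] at h
  exact (commute_conj g a p).1 h

theorem np_conj' {s : G} (hs : s ∈ dperp D a) (hp : p ∈ NP D a) : s * p * s ∈ NP D a := by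
  simpa [inv_eq C.hT hs.1] using C.np_conj (Base.dperp_mem_cen hs) hp

theorem c_aa (hp : p ∈ NP D a) : C.c (a * p * a) = C.c p := by
  have hp' : a * p * a ∈ NP D a := by
    simpa [inv_eq C.hT C.base.ha] using C.np_conj (Base.self_mem_cen (D := D)) hp
  funext k
  show C.φ k _ = C.φ k _
  congr 1
  refine C.pt_unique hp' (C.pt_spec hp k).1 ?_
  have h := (commute_conj a p (C.pt p k)).2 (C.pt_spec hp k).2
  rwa [(C.fib_d (C.pt_spec hp k).1).2.2.eq, mul_inv_cancel_right, inv_eq C.hT C.base.ha] at h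

/-- A member commuting with `a` moves coordinates by an affine transvection. -/
theorem c_conj (hp : p ∈ NP D a) {s : G} (hs : s ∈ fib D a i) :
    C.c (s * p * s) = C.c p + (C.c p i + C.φ i s) • C.col i := by
  have hsd := C.fib_d hs
  have hp' := C.np_conj' hsd hp
  obtain ⟨ht, hpt⟩ := C.pt_spec hp i
  funext k
  obtain ⟨hgk, hpgk⟩ := C.pt_spec hp k
  show C.φ k (C.pt (s * p * s) k) = C.φ k (C.pt p k) + (C.φ i (C.pt p i) + C.φ i s) * C.H k i
  by_cases hik : Commute (i : G) k
  · rw [(C.zero_iff k i).2 hik.symm, mul_zero, add_zero]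
    congr 1
    refine C.pt_unique hp' hgk ?_
    have hsg : Commute s (C.pt p k) :=
      (C.hyp.commute_fib_fib C.base.ha (C.rep i) (C.rep k) hs hgk).2 hik
    exact (hsg.mul_left hpgk).mul_left hsg
  · have hm := C.hyp.fib_move C.base.ha (C.rep i) (C.rep k) hik (C.self_fib i) ht hgk
    have hm' := C.hyp.fib_move C.base.ha (C.rep i) (C.rep k) hik hs ht hgk
    rw [C.pt_unique hp' hm' ?_]
    · have h1 : (i : G) * (s * ((i : G) * (C.pt p i * C.pt p k * C.pt p i) * i) * s) * i =
          s * (C.pt p i * C.pt p k * C.pt p i) * s := by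
        have e1 : (i : G) * s * i = s := conj_self_of_commute C.hT i.2.1
          (Hyp.line_commute C.base.ha (C.rep i) (mem_right i.2.1) hs.1)
        calc (i : G) * (s * ((i : G) * (C.pt p i * C.pt p k * C.pt p i) * i) * s) * i
            = ((i : G) * s * i) * (C.pt p i * C.pt p k * C.pt p i) * ((i : G) * s * i) := by
              simp only [mul_assoc]
          _ = _ := by rw [e1]
      rw [← h1, C.trans i k hik s hs _ hm, C.trans i k hik _ ht _ hgk]
      ring
    · have htsc : s * C.pt p i = C.pt p i * s :=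
        (Hyp.line_commute C.base.ha (C.rep i) hs.1 ht.1).eq
      have h := (commute_conj (s * C.pt p i) p (C.pt p k)).2 hpgk
      rw [mul_inv_rev, inv_eq C.hT ht.1.1, inv_eq C.hT hsd.1] at h
      have e : s * C.pt p i * p * (C.pt p i * s) = s * p * s := by
        calc s * C.pt p i * p * (C.pt p i * s) = s * (C.pt p i * p * C.pt p i) * s := by
              simp only [mul_assoc]
          _ = _ := by rw [conj_self_of_commute C.hT ht.1.1 hpt.symm]
      rw [e] at h
      simpa only [mul_assoc] using h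

theorem c_mem (hp : p ∈ NP D a) : C.c p ∈ C.U := by
  obtain ⟨g, hg, rfl⟩ := C.base.transitive hp.1 hp.2
  suffices key : ∀ g ∈ cen D a, ∀ q ∈ NP D a, C.c q ∈ C.U → C.c (g * q * g⁻¹) ∈ C.U from
    key g hg d C.d_np (by rw [C.c_d]; exact zero_mem _)
  have step : ∀ s ∈ insert a (dperp D a), ∀ q ∈ NP D a, C.c q ∈ C.U → C.c (s * q * s) ∈ C.U := by
    rintro s (rfl | hs) q hq h
    · rwa [C.c_aa hq]
    · obtain ⟨i, hi, hsi⟩ := C.base.exists_rep hs
      rw [C.c_conj (i := ⟨i, hi⟩) hq hsi]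
      exact add_mem h (Submodule.smul_mem _ _ (C.col_mem _))
  intro g hg
  induction hg using Subgroup.closure_induction_left with
  | one => intro q _ h; simpa using h
  | mul_left s hs m hm ih =>
    intro q hq h
    have hsD : s ∈ D := by rcases hs with rfl | hs; exacts [C.base.ha, hs.1]
    rw [show s * m * q * (s * m)⁻¹ = s * (m * q * m⁻¹) * s⁻¹ by group, inv_eq C.hT hsD]
    exact step s hs _ (C.np_conj hm hq) (ih q hq h)
  | inv_mul_cancel s hs m hm ih =>
    intro q hq h
    have hsD : s ∈ D := by rcases hs with rfl | hs; exacts [C.base.ha, hs.1]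
    rw [show s⁻¹ * m * q * (s⁻¹ * m)⁻¹ = s⁻¹ * (m * q * m⁻¹) * s by group, inv_eq C.hT hsD]
    exact step s hs _ (C.np_conj hm hq) (ih q hq h)

/-- The translation along `φ i s • col i`. -/
theorem c_trans (hp : p ∈ NP D a) {s : G} (hs : s ∈ fib D a i) :
    C.c ((i : G) * (s * p * s) * i) = C.c p + C.φ i s • C.col i := by
  rw [C.c_conj (C.np_conj' (C.fib_d hs) hp) (C.self_fib i), C.c_conj hp hs, C.zero]
  funext k
  simp only [Pi.add_apply, Pi.smul_apply, smul_eq_mul, col, C.H_self, mul_zero, add_zero]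
  linear_combination C.two (C.c p i * C.H k i)

theorem exists_shift {u : Rep D a d → F} (hu : u ∈ C.U) :
    ∃ g ∈ cen D a, ∀ q ∈ NP D a, C.c (g * q * g⁻¹) = C.c q + u := by
  suffices key : ∀ ρ : F, ∃ g ∈ cen D a, ∀ q ∈ NP D a, C.c (g * q * g⁻¹) = C.c q + ρ • u by
    simpa using key 1
  induction hu using Submodule.span_induction with
  | mem u hu =>
    obtain ⟨i, rfl⟩ := hu
    intro ρ
    obtain ⟨s, hs, hρ⟩ := (C.bij i).surjOn (Set.mem_univ ρ)
    refine ⟨(i : G) * s, mul_mem (Base.dperp_mem_cen (C.rep i)) (Base.dperp_mem_cen (C.fib_d hs)),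
      fun q hq => ?_⟩
    rw [mul_inv_rev, inv_eq C.hT i.2.1, inv_eq C.hT hs.1.1,
      show (i : G) * s * q * (s * i) = i * (s * q * s) * i by simp only [mul_assoc], C.c_trans hq hs, hρ]
  | zero => exact fun ρ => ⟨1, one_mem _, fun q _ => by simp⟩
  | add u w _ _ hu hw =>
    intro ρ
    obtain ⟨g, hg, h1⟩ := hu ρ
    obtain ⟨g', hg', h2⟩ := hw ρ
    refine ⟨g * g', mul_mem hg hg', fun q hq => ?_⟩
    rw [show g * g' * q * (g * g')⁻¹ = g * (g' * q * g'⁻¹) * g⁻¹ by group, h1 _ (C.np_conj hg' hq),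
      h2 q hq, smul_add]
    abel
  | smul μ u _ hu => exact fun ρ => by simpa [smul_smul] using hu (ρ * μ)

theorem exists_np {u : Rep D a d → F} (hu : u ∈ C.U) : ∃ p ∈ NP D a, C.c p = u := by
  obtain ⟨g, hg, h⟩ := C.exists_shift hu
  exact ⟨_, C.np_conj hg C.d_np, by rw [h d C.d_np, C.c_d, zero_add]⟩

theorem eq_of_all_fib {f : G} (hf : f ∈ dperp D a) (hp : p ∈ NP D a)
    (h : ∀ k, Commute (C.pt p k) f) : False := by
  obtain ⟨g, hg, hfg⟩ := C.hyp.exists_nc_dperp C.base.ha hf
  obtain ⟨k, hk, hgk⟩ := C.base.exists_rep hg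
  refine hfg ((C.hyp.commute_fib C.base.ha (C.rep ⟨k, hk⟩) hgk hf).2 ?_)
  exact (C.hyp.commute_fib C.base.ha (C.rep ⟨k, hk⟩) (C.pt_spec hp ⟨k, hk⟩).1 hf).1 (h ⟨k, hk⟩).symm

/-- Commuting non-partners have different coordinates. -/
theorem c_ne_of_commute (hp : p ∈ NP D a) (hp' : p' ∈ NP D a) (h : Commute p p') (hne : p' ≠ p) :
    C.c p ≠ C.c p' := by
  intro he
  have hpd : p' ∈ dperp D p := ⟨hp'.1, hne, h⟩
  obtain ⟨f, hf, haf⟩ := C.hyp.exists_commute_line hp.1 hpd C.base.ha
  have hfp : Commute f p := Hyp.line_commute hp.1 hpd hf (mem_left hp.1)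
  have hfa : f ≠ a := fun e => hp.2 (e ▸ hfp)
  refine C.eq_of_all_fib (f := f) ⟨hf.1, hfa, haf⟩ hp fun k => ?_
  have hk : C.φ k (C.pt p k) = C.φ k (C.pt p' k) := congrFun he k
  have hk' : C.pt p k = C.pt p' k := (C.bij k).injOn (C.pt_spec hp k).1 (C.pt_spec hp' k).1 hk
  exact C.hyp.commute_of_two hp.1 hpd (mem_left hp.1) (mem_right hp'.1) (Ne.symm hne)
    (C.pt_spec hp k).1.1.1 (C.pt_spec hp k).2.symm (hk' ▸ (C.pt_spec hp' k).2.symm) hf

theorem col_ne_zero (i : Rep D a d) : C.col i ≠ 0 := fun h => by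
  obtain ⟨k, hk, hik⟩ := C.base.exists_nc_rep i.2
  exact hik ((C.zero_iff ⟨k, hk⟩ i).1 (congrFun h ⟨k, hk⟩)).symm

/-- A column determines its representative. -/
theorem col_inj {μ : F} (h : C.col k = μ • C.col i) : k = i := by
  by_contra hne
  have hμ : μ ≠ 0 := fun e => C.col_ne_zero k (by rw [h, e, zero_smul])
  have hcm : Commute (i : G) k := by
    refine (C.zero_iff i k).1 ?_
    have := congrFun h i
    simp only [col, Pi.smul_apply, smul_eq_mul, C.H_self, mul_zero] at this
    exact this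
  obtain ⟨s, hs, hsμ⟩ := (C.bij i).surjOn (Set.mem_univ μ)
  obtain ⟨t, ht, ht1⟩ := (C.bij k).surjOn (Set.mem_univ (1 : F))
  have hsi : s ≠ i := fun e => hμ (by rw [← hsμ, e, C.zero])
  have htk : t ≠ k := fun e => one_ne_zero (by rw [← ht1, e, C.zero])
  have hds := C.base.rep_not_fib i.2 hs hsi
  have hdt := C.base.rep_not_fib k.2 ht htk
  have hp1 := C.np_conj' (C.fib_d hs) C.d_np
  have hp2 := C.np_conj' (C.fib_d ht) C.d_np
  have hst : Commute s t := (C.hyp.commute_fib_fib C.base.ha (C.rep i) (C.rep k) hs ht).2 hcm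
  refine C.c_ne_of_commute hp1 hp2 ?_ (fun e => ?_) ?_
  · rw [braid C.hT hs.1.1 C.base.hd fun e => hds e.symm,
      braid C.hT ht.1.1 C.base.hd fun e => hdt e.symm, conj_involution C.hT C.base.hd,
      conj_involution C.hT C.base.hd]
    exact (commute_conj d s t).2 hst
  · rw [braid C.hT hs.1.1 C.base.hd fun e => hds e.symm,
      braid C.hT ht.1.1 C.base.hd fun e => hdt e.symm] at e
    have e' : t = s := mul_left_cancel (mul_right_cancel e)
    refine hne (Subtype.ext (C.base.rep_unique i.2 k.2 ?_))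
    rw [← C.hyp.fib_line C.base.ha (C.rep i) hs, ← e', C.hyp.fib_line C.base.ha (C.rep k) ht]
    exact mem_right k.2.1
  · rw [C.c_conj C.d_np hs, C.c_conj C.d_np ht, C.c_d, hsμ, ht1, h]
    simp

/-! ### The form -/

open scoped _root_.Classical in
/-- Coefficients of a vector of the coordinate space. -/
noncomputable def coef [Fintype (Rep D a d)] (f : Rep D a d → F) : Rep D a d → F :=
  if h : ∃ y : Rep D a d → F, ∑ i, y i • C.col i = f then h.choose else 0

/-- The form. -/
noncomputable def form [Fintype (Rep D a d)] (f g : Rep D a d → F) : F :=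
  ∑ k, σ (C.coef f k) * g k

variable [Fintype (Rep D a d)] {f f' g g' : Rep D a d → F}

theorem form_eq (hg : g ∈ C.U) {y : Rep D a d → F} (hy : ∑ i, y i • C.col i = f) :
    C.form f g = ∑ k, σ (y k) * g k := by
  obtain ⟨z, rfl⟩ := (Submodule.mem_span_range_iff_exists_fun F).1 hg
  have key : ∀ y : Rep D a d → F, ∑ i, y i • C.col i = f →
      ∑ k, σ (y k) * (∑ i, z i • C.col i) k = ∑ i, z i * σ (f i) := by
    intro y hy
    subst hy
    simp only [Finset.sum_apply, Pi.smul_apply, smul_eq_mul, map_sum, map_mul, Finset.mul_sum]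
    rw [Finset.sum_comm]
    refine Finset.sum_congr rfl fun i _ => Finset.sum_congr rfl fun k _ => ?_
    simp only [col, C.herm]
    ring
  have hc : ∑ i, C.coef f i • C.col i = f := by
    have h : ∃ y : Rep D a d → F, ∑ i, y i • C.col i = f := ⟨y, hy⟩
    rw [coef, dif_pos h]
    exact h.choose_spec
  rw [form, key _ hc, key _ hy]

theorem form_col (hg : g ∈ C.U) (i : Rep D a d) : C.form (C.col i) g = g i := by
  classical
  rw [C.form_eq (y := Pi.single i 1) hg]
  · rw [Finset.sum_eq_single i (fun k _ hk => by simp [hk]) (by simp)]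
    simp
  · rw [Finset.sum_eq_single i (fun k _ hk => by simp [hk]) (by simp)]
    simp

theorem exists_coef (hf : f ∈ C.U) : ∃ y : Rep D a d → F, ∑ i, y i • C.col i = f :=
  (Submodule.mem_span_range_iff_exists_fun F).1 hf

theorem form_add_left (hf : f ∈ C.U) (hf' : f' ∈ C.U) (hg : g ∈ C.U) :
    C.form (f + f') g = C.form f g + C.form f' g := by
  obtain ⟨y, hy⟩ := C.exists_coef hf
  obtain ⟨y', hy'⟩ := C.exists_coef hf'
  rw [C.form_eq (y := y + y') hg, C.form_eq hg hy, C.form_eq hg hy', ← Finset.sum_add_distrib]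
  · simp [add_mul]
  · simp [add_smul, Finset.sum_add_distrib, hy, hy']

theorem form_smul_left (μ : F) (hf : f ∈ C.U) (hg : g ∈ C.U) :
    C.form (μ • f) g = σ μ * C.form f g := by
  obtain ⟨y, hy⟩ := C.exists_coef hf
  rw [C.form_eq (y := μ • y) hg, C.form_eq hg hy, Finset.mul_sum]
  · simp [mul_assoc]
  · simp [← smul_smul, ← Finset.smul_sum, hy]

theorem form_add_right : C.form f (g + g') = C.form f g + C.form f g' := by
  simp [form, mul_add, Finset.sum_add_distrib]

theorem form_smul_right (μ : F) : C.form f (μ • g) = μ * C.form f g := by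
  simp [form, Finset.mul_sum, mul_left_comm]

theorem form_symm (hf : f ∈ C.U) (hg : g ∈ C.U) : σ (C.form f g) = C.form g f := by
  obtain ⟨y, hy⟩ := C.exists_coef hf
  obtain ⟨z, hz⟩ := C.exists_coef hg
  rw [C.form_eq hg hy, C.form_eq hf hz, ← hy, ← hz]
  simp only [Finset.sum_apply, Pi.smul_apply, smul_eq_mul, map_sum, map_mul, Finset.mul_sum, C.invol]
  rw [Finset.sum_comm]
  refine Finset.sum_congr rfl fun i _ => Finset.sum_congr rfl fun k _ => ?_
  simp only [col, C.herm]
  ring

theorem form_nondeg (hf : f ∈ C.U) (h : ∀ g ∈ C.U, C.form f g = 0) : f = 0 := funext fun i => by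
  rw [← C.form_col hf i, ← C.form_symm hf (C.col_mem i), h _ (C.col_mem i), map_zero]
  rfl

/-! ### Counting -/

variable [Fintype F]

/-- The non-partners with coordinates zero. -/
def K0 : Set G := {p | p ∈ NP D a ∧ C.c p = 0}

omit [Fintype F] [Fintype (Rep D a d)] in
theorem ncard_class (hf : f ∈ C.U) :
    {p | p ∈ NP D a ∧ C.c p = f}.ncard = C.K0.ncard := by
  obtain ⟨g, hg, h⟩ := C.exists_shift hf
  have he : {p | p ∈ NP D a ∧ C.c p = f} = (fun p => g * p * g⁻¹) '' C.K0 := by
    refine Set.ext fun p => ⟨fun ⟨hp, hpf⟩ => ?_, ?_⟩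
    · have hp0 : g⁻¹ * p * g ∈ NP D a := by simpa using C.np_conj (inv_mem hg) hp
      refine ⟨g⁻¹ * p * g, ⟨hp0, ?_⟩, by group⟩
      have h1 := h _ hp0
      rw [show g * (g⁻¹ * p * g) * g⁻¹ = p by group, hpf] at h1
      exact add_eq_right.1 h1.symm
    · rintro ⟨p, ⟨hp, hp0⟩, rfl⟩
      exact ⟨C.np_conj hg hp, by rw [h p hp, hp0, zero_add]⟩
  rw [he, Set.ncard_image_of_injective _ fun u w h => mul_left_cancel (mul_right_cancel h)]

theorem two_le_K0 : 2 ≤ C.K0.ncard := by
  have hne : d ≠ a * d * a := fun h => C.base.hnc <| by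
    show a * d = d * a
    conv_rhs => rw [h]
    rw [mul_mul_self C.hT C.base.ha]
  have hsub : ({d, a * d * a} : Set G) ⊆ C.K0 := by
    refine Set.insert_subset ⟨C.d_np, C.c_d⟩ (Set.singleton_subset_iff.2 ⟨?_, ?_⟩)
    · simpa [inv_eq C.hT C.base.ha] using C.np_conj (Base.self_mem_cen (D := D)) C.d_np
    · rw [C.c_aa C.d_np, C.c_d]
  rw [← Set.ncard_pair hne]
  exact Set.ncard_le_ncard hsub (Set.toFinite _)

/-- The isotropic vectors with coordinate one at `i`. -/
def isoOne (i : Rep D a d) : Set (Rep D a d → F) := {x | x ∈ C.U ∧ x i = 1 ∧ C.form x x = 0}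

/-- The vectors with coordinate zero at `i`. -/
def ker (i : Rep D a d) : Set (Rep D a d → F) := {x | x ∈ C.U ∧ x i = 0}

omit [Fintype F] [Fintype (Rep D a d)] in
theorem c_eq_zero_iff (hp : p ∈ NP D a) : C.c p i = 0 ↔ Commute p i := by
  refine ⟨fun h => ?_, fun h => ?_⟩
  · have := (C.bij i).injOn (C.pt_spec hp i).1 (C.self_fib i) (show C.φ i (C.pt p i) = C.φ i i by
      rw [C.zero]; exact h)
    exact this ▸ (C.pt_spec hp i).2
  · show C.φ i (C.pt p i) = 0
    rw [C.pt_unique hp (C.self_fib i) h, C.zero]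

theorem form_col_self (k : Rep D a d) : C.form (C.col k) (C.col k) = 0 := by
  rw [C.form_col (C.col_mem k)]; exact C.H_self k

/-- A class of coordinates against the isotropic vectors. -/
theorem count (i : Rep D a d) :
    C.K0.ncard * (C.ker i).ncard ≤ Fintype.card F * (C.isoOne i).ncard ∧
    (C.K0.ncard * (C.ker i).ncard = Fintype.card F * (C.isoOne i).ncard →
      ∀ x ∈ C.isoOne i, ∃ (k : Rep D a d) (μ : F), x = μ • C.col k) := by
  classical
  set Y := {g : G | g ∈ dperp D a ∧ ¬ Commute (i : G) g} with hY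
  set A := {p : G | p ∈ NP D a ∧ Commute p (i : G)} with hA
  have hAY : A.ncard = Y.ncard := by
    have hi := C.rep i
    have hai : a ∈ dperp D (i : G) := ⟨C.base.ha, Ne.symm hi.2.1, hi.2.2.symm⟩
    have hAe : A = dperp D (i : G) \ insert a (dperp D a) := by
      refine Set.ext fun p => ⟨fun ⟨hp, hpi⟩ => ⟨⟨hp.1, ?_, hpi.symm⟩, ?_⟩, fun ⟨hp, hn⟩ =>
        ⟨⟨hp.1, fun h => hn ?_⟩, hp.2.2.symm⟩⟩
      · exact fun e => hp.2 (e ▸ hi.2.2)
      · rintro (rfl | h)
        · exact hp.2 (Commute.refl p)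
        · exact hp.2 h.2.2
      · rcases eq_or_ne p a with rfl | hne
        · exact Set.mem_insert _ _
        · exact Set.mem_insert_of_mem _ ⟨hp.1, hne, h⟩
    have hYe : Y = dperp D a \ insert (i : G) (dperp D (i : G)) := by
      refine Set.ext fun p => ⟨fun ⟨hp, hpi⟩ => ⟨hp, ?_⟩, fun ⟨hp, hn⟩ => ⟨hp, fun h => hn ?_⟩⟩
      · rintro (rfl | h)
        · exact hpi (Commute.refl _)
        · exact hpi h.2.2
      · rcases eq_or_ne p i with rfl | hne
        · exact Set.mem_insert _ _
        · exact Set.mem_insert_of_mem _ ⟨hp.1, hne, h⟩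
    have heq : (dperp D a).ncard = (dperp D (i : G)).ncard := by
      obtain ⟨g, hg⟩ := class_isConj C.hyp.cls C.base.ha hi.1
      rw [← Set.ncard_image_of_injective (dperp D a) (f := fun e => g * e * g⁻¹)
        fun u w h => mul_left_cancel (mul_right_cancel h)]
      congr 1
      refine Set.ext fun w => ⟨?_, fun hw => ⟨g⁻¹ * w * g, ?_, by group⟩⟩
      · rintro ⟨e, he, rfl⟩
        rw [← hg]; exact dperp_conj C.hyp.hc g he
      · have := dperp_conj C.hyp.hc g⁻¹ hw
        rwa [← hg, inv_inv, show g⁻¹ * (g * a * g⁻¹) * g = a by group] at this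
    rw [hAe, hYe]
    have h1 := Set.ncard_inter_add_ncard_sdiff_eq_ncard (dperp D (i : G)) (insert a (dperp D a)) (Set.toFinite _)
    have h2 := Set.ncard_inter_add_ncard_sdiff_eq_ncard (dperp D a) (insert (i : G) (dperp D (i : G))) (Set.toFinite _)
    have e1 : dperp D (i : G) ∩ insert a (dperp D a) = insert a (dperp D (i : G) ∩ dperp D a) := by
      rw [Set.insert_inter_distrib, Set.insert_eq_of_mem hai]
    have e2 : dperp D a ∩ insert (i : G) (dperp D (i : G)) = insert (i : G) (dperp D (i : G) ∩ dperp D a) := by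
      rw [Set.insert_inter_distrib, Set.insert_eq_of_mem hi, Set.inter_comm]
    rw [e1, Set.ncard_insert_of_notMem fun h => h.2.2.1 rfl] at h1
    rw [e2, Set.ncard_insert_of_notMem fun h => h.1.2.1 rfl] at h2
    omega
  have hAsum : A.ncard = C.K0.ncard * (C.ker i).ncard := by
    rw [Set.ncard_eq_toFinset_card _ (Set.toFinite A),
      Finset.card_eq_sum_card_fiberwise (f := C.c) (t := (Set.toFinite (C.ker i)).toFinset)]
    · rw [Finset.sum_const_nat (m := C.K0.ncard), ← Set.ncard_eq_toFinset_card, mul_comm]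
      intro x hx
      rw [Set.Finite.mem_toFinset] at hx
      rw [← C.ncard_class hx.1, ← Set.ncard_coe_finset]
      congr 1
      refine Set.ext fun p => ?_
      simp only [Finset.coe_filter, Set.Finite.mem_toFinset, hA, Set.mem_ofPred_eq]
      exact ⟨fun h => ⟨h.1.1, h.2⟩,
        fun h => ⟨⟨h.1, (C.c_eq_zero_iff h.1).1 (by rw [h.2]; exact hx.2)⟩, h.2⟩⟩
    · intro p hp
      simp only [Finset.mem_coe, Set.Finite.mem_toFinset] at hp ⊢
      exact ⟨C.c_mem hp.1, (C.c_eq_zero_iff hp.1).2 hp.2⟩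
  -- normalised column and label
  have hrep : ∀ g ∈ Y, ∃ k : Rep D a d, g ∈ fib D a k ∧ C.H i k ≠ 0 := fun g hg => by
    obtain ⟨k, hk, hgk⟩ := C.base.exists_rep hg.1
    refine ⟨⟨k, hk⟩, hgk, fun h => hg.2 ?_⟩
    exact (C.hyp.commute_fib C.base.ha (C.rep ⟨k, hk⟩) hgk (C.rep i)).2 ((C.zero_iff i ⟨k, hk⟩).1 h)
  let m : Y → C.isoOne i × F := fun g =>
    (⟨(C.H i (hrep g g.2).choose)⁻¹ • C.col (hrep g g.2).choose,
      Submodule.smul_mem _ _ (C.col_mem _),
      by simp [col, (hrep g g.2).choose_spec.2],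
      by rw [C.form_smul_left _ (C.col_mem _) (Submodule.smul_mem _ _ (C.col_mem _)),
        form_smul_right, C.form_col_self, mul_zero, mul_zero]⟩,
      C.φ (hrep g g.2).choose g)
  have hm : Function.Injective m := by
    intro g g' h
    simp only [m, Prod.mk.injEq] at h
    obtain ⟨h1, h2⟩ := h
    obtain ⟨hg1, hg2⟩ := (hrep g g.2).choose_spec
    obtain ⟨hg1', hg2'⟩ := (hrep g' g'.2).choose_spec
    have h1' := congrArg Subtype.val h1
    dsimp only at h1'
    have hk : C.col (hrep g' g'.2).choose =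
        (C.H i (hrep g' g'.2).choose * (C.H i (hrep g g.2).choose)⁻¹) • C.col (hrep g g.2).choose := by
      rw [mul_smul, h1', smul_inv_smul₀ hg2']
    have hkk := C.col_inj hk
    rw [hkk] at h2 hg1'
    exact Subtype.ext ((C.bij _).injOn hg1 hg1' h2)
  have hcard : Nat.card (C.isoOne i × F) = Fintype.card F * (C.isoOne i).ncard := by
    rw [Nat.card_prod, Nat.card_coe_set_eq, Nat.card_eq_fintype_card, mul_comm]
  refine ⟨?_, fun h x hx => ?_⟩
  · rw [← hAsum, hAY, ← Nat.card_coe_set_eq, ← hcard]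
    exact Nat.card_le_card_of_injective m hm
  · have hb : Function.Bijective m := (Nat.bijective_iff_injective_and_card m).2
      ⟨hm, by rw [hcard, Nat.card_coe_set_eq, ← h, ← hAsum, hAY]⟩
    obtain ⟨g, hg⟩ := hb.2 (⟨x, hx⟩, 0)
    exact ⟨_, _, (congrArg Subtype.val (congrArg Prod.fst hg)).symm⟩

omit [Fintype F] in
/-- Equal coordinates: equal or swapped by `a`, if two members have coordinates zero. -/
theorem eq_or_eq_of_c_eq (h2 : C.K0.ncard = 2) (hp : p ∈ NP D a) (hp' : p' ∈ NP D a)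
    (h : C.c p' = C.c p) : p' = p ∨ p' = a * p * a := by
  by_contra hc
  push Not at hc
  have hne : p ≠ a * p * a := fun e => hp.2 <| by
    show a * p = p * a
    conv_rhs => rw [e]
    rw [mul_mul_self C.hT C.base.ha]
  have hap : a * p * a ∈ NP D a := by
    simpa [inv_eq C.hT C.base.ha] using C.np_conj (Base.self_mem_cen (D := D)) hp
  have hsub : ({p', p, a * p * a} : Set G) ⊆ {q | q ∈ NP D a ∧ C.c q = C.c p} := by
    rintro q (rfl | rfl | rfl)
    exacts [⟨hp', h⟩, ⟨hp, rfl⟩, ⟨hap, C.c_aa hp⟩]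
  have h1 := Set.ncard_le_ncard hsub (Set.toFinite _)
  rw [C.ncard_class (C.c_mem hp), h2, Set.ncard_eq_three.2 ⟨p', p, a * p * a, hc.1, hc.2, hne, rfl⟩] at h1
  omega

end Coord

end Cfsg.Agent.ThreeTrans.SpPSU
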