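import Cfsg.Agent.LocalLines.Local

/-!
# Lines of a class of 3-transpositions with a local pair of twins

If two distinct members commuting with `x` have the same partners among the members commuting with
`x`, every two commuting members lie on a line of at least three members: the members commuting
with everything that commutes with both. A member commutes with all of a line or with exactly one
member of it.
-/

set_option autoImplicit false

open Cfsg

namespace Cfsg.Agent.ThreeTrans.SpPSU

variable {G : Type*} [Group G] {D : Set G} {x y z a a' b c d e g u v : G}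

/-- The members commuting with `x` and `y`. -/
def perp2 (D : Set G) (x y : G) : Set G := {e | e ∈ D ∧ Commute e x ∧ Commute e y}

/-- The members commuting with everything that commutes with `x` and `y`. -/
def line (D : Set G) (x y : G) : Set G := {z | z ∈ D ∧ ∀ e ∈ perp2 D x y, Commute e z}

theorem perp2_swap : perp2 D x y = perp2 D y x :=
  Set.ext fun _ => ⟨fun h => ⟨h.1, h.2.2, h.2.1⟩, fun h => ⟨h.1, h.2.2, h.2.1⟩⟩

theorem line_swap : line D x y = line D y x := by simp only [line, perp2_swap (x := x) (y := y)]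

theorem mem_left (hx : x ∈ D) : x ∈ line D x y := ⟨hx, fun _ he => he.2.1⟩

theorem mem_right (hy : y ∈ D) : y ∈ line D x y := ⟨hy, fun _ he => he.2.2⟩

theorem image_perp2 (hc : ∀ g : G, ∀ d ∈ D, g * d * g⁻¹ ∈ D) (g x y : G) :
    (fun e => g * e * g⁻¹) '' perp2 D x y = perp2 D (g * x * g⁻¹) (g * y * g⁻¹) := by
  refine Set.ext fun w => ⟨?_, fun hw => ?_⟩
  · rintro ⟨e, he, rfl⟩
    exact ⟨hc g e he.1, (commute_conj g _ _).2 he.2.1, (commute_conj g _ _).2 he.2.2⟩
  · obtain ⟨e, rfl⟩ : ∃ e, g * e * g⁻¹ = w := ⟨g⁻¹ * w * g, by group⟩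
    refine ⟨e, ⟨?_, (commute_conj g _ _).1 hw.2.1, (commute_conj g _ _).1 hw.2.2⟩, rfl⟩
    simpa [mul_assoc] using hc g⁻¹ _ hw.1

theorem conj_mem_line (hc : ∀ g : G, ∀ d ∈ D, g * d * g⁻¹ ∈ D) (g : G) (h : z ∈ line D x y) :
    g * z * g⁻¹ ∈ line D (g * x * g⁻¹) (g * y * g⁻¹) := by
  refine ⟨hc g z h.1, fun e he => ?_⟩
  rw [← image_perp2 hc] at he
  obtain ⟨e, he, rfl⟩ := he
  exact (commute_conj g _ _).2 (h.2 e he)

theorem line_conj_ncard (hc : ∀ g : G, ∀ d ∈ D, g * d * g⁻¹ ∈ D) (g x y : G) :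
    (line D (g * x * g⁻¹) (g * y * g⁻¹)).ncard = (line D x y).ncard := by
  rw [← Set.ncard_image_of_injective (line D x y) (f := fun z => g * z * g⁻¹)
    fun u w h => mul_left_cancel (mul_right_cancel h)]
  congr 1
  refine Set.ext fun w => ⟨fun hw => ⟨g⁻¹ * w * g, ?_, by group⟩, ?_⟩
  · simpa [mul_assoc] using conj_mem_line hc g⁻¹ hw
  · rintro ⟨z, hz, rfl⟩
    exact conj_mem_line hc g hz

variable [Finite G]

/-- The standing hypotheses. -/
structure Hyp (D : Set G) : Prop where
  hsol : ∀ N : Subgroup G, N.Normal → Group.IsSolvable N → N = ⊥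
  hperf : ⁅commutator G, commutator G⁆ = commutator G
  cls : IsThreeTranspositionClass D
  twins : ∃ x a b, x ∈ D ∧ a ∈ dperp D x ∧ b ∈ dperp D x ∧ a ≠ b ∧
    ∀ e ∈ dperp D x, Commute a e → Commute b e

namespace Hyp

variable (S : Hyp D)
include S

theorem hT : IsThreeTranspositionSet D := S.cls.1

theorem hc : ∀ g : G, ∀ d ∈ D, g * d * g⁻¹ ∈ D := class_conj S.cls

theorem mem_conj (hd : d ∈ D) (he : e ∈ D) : d * e * d ∈ D := conj_mem S.hT S.hc hd he

theorem sq (hd : d ∈ D) : d * d = 1 := mul_self S.hT hd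

theorem trans (hx : x ∈ D) (hy : y ∈ dperp D x) (ha : a ∈ D) (hb : b ∈ dperp D a) :
    ∃ g : G, g * a * g⁻¹ = x ∧ g * b * g⁻¹ = y := by
  obtain ⟨g, hg⟩ := class_isConj S.cls ha hx
  have h1 := dperp_conj S.hc g hb
  rw [hg] at h1
  obtain ⟨k, hk, hk2⟩ := exists_commute_conj_dperp (fun N hN _ hs => S.hsol N hN hs) S.hperf S.cls
    hx h1 hy
  refine ⟨k * g, ?_, ?_⟩
  · calc k * g * a * (k * g)⁻¹ = k * (g * a * g⁻¹) * k⁻¹ := by group
      _ = x := by rw [hg, hk.eq, mul_inv_cancel_right]
  · calc k * g * b * (k * g)⁻¹ = k * (g * b * g⁻¹) * k⁻¹ := by group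
      _ = y := hk2

theorem line_card (hx : x ∈ D) (hy : y ∈ dperp D x) (ha : a ∈ D) (hb : b ∈ dperp D a) :
    (line D x y).ncard = (line D a b).ncard := by
  obtain ⟨g, g1, g2⟩ := S.trans hx hy ha hb
  rw [← g1, ← g2, line_conj_ncard S.hc]

theorem exists_dperp (hx : x ∈ D) : (dperp D x).Nonempty := by
  obtain ⟨x₀, a₀, -, hx₀, ha₀, -⟩ := S.twins
  obtain ⟨g, rfl⟩ := class_isConj S.cls hx₀ hx
  exact ⟨_, dperp_conj S.hc g ha₀⟩

theorem exists_third (hx : x ∈ D) (hy : y ∈ dperp D x) : ∃ z ∈ line D x y, z ≠ x ∧ z ≠ y := by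
  obtain ⟨x₀, a₀, b₀, hx₀, ha₀, hb₀, hne, htw⟩ := S.twins
  have hb : b₀ ∈ line D x₀ a₀ := by
    refine ⟨hb₀.1, fun e he => ?_⟩
    rcases eq_or_ne e x₀ with rfl | hex
    · exact hb₀.2.2
    · exact (htw e ⟨he.1, hex, he.2.1.symm⟩ he.2.2.symm).symm
  obtain ⟨g, g1, g2⟩ := S.trans hx hy hx₀ ha₀
  refine ⟨g * b₀ * g⁻¹, ?_, ?_, ?_⟩
  · rw [← g1, ← g2]; exact conj_mem_line S.hc g hb
  · rw [← g1]; exact fun h => hb₀.2.1 (mul_left_cancel (mul_right_cancel h))
  · rw [← g2]; exact fun h => hne (mul_left_cancel (mul_right_cancel h)).symm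

omit [Finite G] S in
theorem mem_perp2 (hxy : Commute x y) (hz : z ∈ line D x y) (hx : x ∈ D) (hy : y ∈ D) :
    z ∈ perp2 D x y :=
  ⟨hz.1, (hz.2 x ⟨hx, Commute.refl x, hxy⟩).symm, (hz.2 y ⟨hy, hxy.symm, Commute.refl y⟩).symm⟩

omit [Finite G] S in
theorem line_commute (hx : x ∈ D) (hy : y ∈ dperp D x) (hu : u ∈ line D x y) (hv : v ∈ line D x y) :
    Commute u v :=
  hv.2 u (mem_perp2 hy.2.2 hu hx hy.1)

theorem perp2_eq (hx : x ∈ D) (hy : y ∈ dperp D x) (hu : u ∈ line D x y) (hv : v ∈ line D x y)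
    (hne : u ≠ v) : perp2 D u v = perp2 D x y := by
  have hsub : perp2 D x y ⊆ perp2 D u v := fun e he => ⟨he.1, hu.2 e he, hv.2 e he⟩
  obtain ⟨g, g1, g2⟩ := S.trans hu.1 ⟨hv.1, hne.symm, line_commute hx hy hu hv⟩ hx hy
  refine (Set.eq_of_subset_of_ncard_le hsub ?_ (Set.toFinite _)).symm
  rw [← g1, ← g2, ← image_perp2 S.hc,
    Set.ncard_image_of_injective _ fun u w h => mul_left_cancel (mul_right_cancel h)]

/-- Two members of a line determine it. -/
theorem line_eq (hx : x ∈ D) (hy : y ∈ dperp D x) (hu : u ∈ line D x y) (hv : v ∈ line D x y)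
    (hne : u ≠ v) : line D u v = line D x y := by
  simp only [line, S.perp2_eq hx hy hu hv hne]

/-- A member commuting with two members of a line commutes with all of it. -/
theorem commute_of_two (hx : x ∈ D) (hy : y ∈ dperp D x) (hu : u ∈ line D x y) (hv : v ∈ line D x y)
    (hne : u ≠ v) (he : e ∈ D) (h1 : Commute e u) (h2 : Commute e v) (hz : z ∈ line D x y) :
    Commute e z := by
  refine hz.2 e ?_
  rw [← S.perp2_eq hx hy hu hv hne]
  exact ⟨he, h1, h2⟩

theorem exists_nc_dperp (hx : x ∈ D) (ha : a ∈ dperp D x) : ∃ b ∈ dperp D x, ¬ Commute a b := by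
  obtain ⟨z, hz, hzx, hza⟩ := S.exists_third hx ha
  have hzp : z ∈ dperp D x := ⟨hz.1, hzx, line_commute hx ha (mem_left hx) hz⟩
  rw [← dcomp_eq_dperp (fun N hN _ hs => S.hsol N hN hs) S.hperf S.cls hx ha] at hzp
  rcases hzp.cases_head with h | ⟨b, hb, -⟩
  · exact absurd h.symm hza
  · exact ⟨b, hb.1.2, hb.2⟩

/-- Two members of the fibre of `a` move the fibre of a non-partner to itself. -/
theorem move (hx : x ∈ D) (ha : a ∈ dperp D x) (ha' : a' ∈ line D x a) (hne : a' ≠ x)
    (hb : b ∈ dperp D x) (hab : ¬ Commute a b) :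
    a * (a' * b * a') * a ∈ line D x b ∧ a * (a' * b * a') * a ≠ x ∧ ¬ Commute a' b := by
  have ha'x : Commute x a' := line_commute hx ha (mem_left hx) ha'
  have hnc : ¬ Commute a' b := fun h =>
    hab (S.commute_of_two hx ha ha' (mem_left hx) hne hb.1 h.symm hb.2.2.symm (mem_right ha.1)).symm
  refine ⟨?_, fun h => ?_, hnc⟩
  · rw [braid S.hT ha'.1 hb.1 hnc]
    have h1 := conj_mem_line S.hc b ha'
    have hl : line D x a' = line D x a := S.line_eq hx ha (mem_left hx) ha' (Ne.symm hne)
    rw [hb.2.2.symm.eq, mul_inv_cancel_right, inv_eq S.hT hb.1] at h1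
    have h2 := conj_mem_line S.hc a h1
    rw [ha.2.2.symm.eq, mul_inv_cancel_right, inv_eq S.hT ha.1] at h2
    rwa [← braid S.hT ha.1 hb.1 hab,
      show a * (a * b * a) * a = b by
        simp only [mul_assoc, mul_self_mul S.hT ha.1, S.sq ha.1, mul_one]] at h2
  · have h1 : a * x * a = x := conj_self_of_commute S.hT ha.1 ha.2.2.symm
    have h2 : a' * x * a' = x := conj_self_of_commute S.hT ha'.1 ha'x.symm
    refine hb.2.1 ?_
    have : a' * (a * (a * (a' * b * a') * a) * a) * a' = a' * (a * x * a) * a' := by rw [h]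
    rw [h1, h2] at this
    rw [← this]
    simp only [mul_assoc, mul_self_mul S.hT ha.1, mul_self_mul S.hT ha'.1, S.sq ha.1, S.sq ha'.1,
      mul_one]

theorem move_inj {a'' : G} (ha' : a' ∈ D) (ha'' : a'' ∈ D) (hb : b ∈ D) (h1 : ¬ Commute a' b)
    (h2 : ¬ Commute a'' b) (h : a' * b * a' = a'' * b * a'') : a' = a'' := by
  rw [braid S.hT ha' hb h1, braid S.hT ha'' hb h2] at h
  exact mul_left_cancel (mul_right_cancel h)

theorem move_ne (ha : a ∈ D) (ha' : a' ∈ D) (hb : b ∈ D) (hne : a' ≠ a) (hab : ¬ Commute a b)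
    (ha'b : ¬ Commute a' b) : a * (a' * b * a') * a ≠ b := fun h => by
  refine hne (S.move_inj ha' ha hb ha'b hab ?_)
  conv_rhs => rw [← h]
  simp only [mul_assoc, mul_self_mul S.hT ha, S.sq ha, mul_one]

/-- Every member of the fibre of `b` is a translate of `b`. -/
theorem move_surj (hx : x ∈ D) (ha : a ∈ dperp D x) (hb : b ∈ dperp D x) (hab : ¬ Commute a b)
    (hv : v ∈ line D x b) (hvx : v ≠ x) :
    ∃ a' ∈ line D x a, a' ≠ x ∧ a * (a' * b * a') * a = v := by
  classical
  let f : G → G := fun a' => a * (a' * b * a') * a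
  have hcard : (line D x b \ {x}).ncard = (line D x a \ {x}).ncard := by
    rw [Set.ncard_sdiff_singleton_of_mem (mem_left hx), Set.ncard_sdiff_singleton_of_mem (mem_left hx),
      S.line_card hx hb hx ha]
  have himg : f '' (line D x a \ {x}) = line D x b \ {x} := by
    refine Set.eq_of_subset_of_ncard_le ?_ ?_ (Set.toFinite _)
    · rintro _ ⟨a', ⟨h1, h2⟩, rfl⟩
      exact ⟨(S.move hx ha h1 h2 hb hab).1, (S.move hx ha h1 h2 hb hab).2.1⟩
    · rw [Set.ncard_image_of_injOn, hcard]
      intro u hu w hw huw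
      exact S.move_inj hu.1.1 hw.1.1 hb.1 (S.move hx ha hu.1 hu.2 hb hab).2.2
        (S.move hx ha hw.1 hw.2 hb hab).2.2 (mul_left_cancel (mul_right_cancel huw))
  have h1 : v ∈ line D x b \ {x} := ⟨hv, hvx⟩
  rw [← himg] at h1
  obtain ⟨a', ⟨h2, h3⟩, h4⟩ := h1
  exact ⟨a', h2, h3, h4⟩

omit [Group G] [Finite G] S in
theorem even_of_involution {α : Type*} {T : Set α} (hT : T.Finite) (f : α → α) (hf : ∀ u ∈ T, f u ∈ T)
    (hne : ∀ u ∈ T, f u ≠ u) (hinv : ∀ u ∈ T, f (f u) = u) : Even T.ncard := by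
  classical
  rw [Set.ncard_eq_toFinset_card _ hT, even_iff_two_dvd]
  have h2 : ∑ _u ∈ hT.toFinset, (1 : ZMod 2) = 0 := by
    refine Finset.sum_involution (fun u _ => f u) (fun _ _ => ?_) (fun u hu _ => hne u (by simpa using hu))
      (fun u hu => by simpa using hf u (by simpa using hu)) (fun u hu => hinv u (by simpa using hu))
    decide
  rw [Finset.sum_const, nsmul_eq_mul, mul_one, ZMod.natCast_eq_zero_iff_even] at h2
  exact even_iff_two_dvd.1 h2

theorem odd_line (hx : x ∈ D) (hb : b ∈ dperp D x) : Odd (line D x b).ncard := by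
  obtain ⟨a, ha, hba⟩ := S.exists_nc_dperp hx hb
  obtain ⟨a', ha', hne, hne'⟩ := S.exists_third hx ha
  have haa : Commute a a' := line_commute hx ha (mem_right ha.1) ha'
  have hev : Even ((line D x b \ {x}).ncard) := by
    refine even_of_involution (Set.toFinite _) (fun u => a * (a' * u * a') * a) ?_ ?_ ?_
    · intro u hu
      have hul : line D x u = line D x b := S.line_eq hx hb (mem_left hx) hu.1 (Ne.symm hu.2)
      have hup : u ∈ dperp D x := ⟨hu.1.1, hu.2, line_commute hx hb (mem_left hx) hu.1⟩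
      have hau : ¬ Commute a u := fun h => hba (S.commute_of_two hx hb hu.1 (mem_left hx) hu.2 ha.1 h
        ha.2.2.symm (mem_right hb.1)).symm
      have h1 := S.move hx ha ha' hne hup hau
      exact ⟨hul ▸ h1.1, h1.2.1⟩
    · intro u hu
      have hup : u ∈ dperp D x := ⟨hu.1.1, hu.2, line_commute hx hb (mem_left hx) hu.1⟩
      have hau : ¬ Commute a u := fun h => hba (S.commute_of_two hx hb hu.1 (mem_left hx) hu.2 ha.1 h
        ha.2.2.symm (mem_right hb.1)).symm
      exact S.move_ne ha.1 ha'.1 hu.1.1 hne' hau (S.move hx ha ha' hne hup hau).2.2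
    · intro u _
      have h1 : a * a' * (a * a') = 1 := by
        rw [mul_assoc, ← mul_assoc a' a, ← haa.eq, mul_assoc a a', mul_self_mul S.hT ha.1, S.sq ha'.1]
      have h2 : a' * a * (a' * a) = 1 := by rw [← haa.eq]; exact h1
      calc a * (a' * (a * (a' * u * a') * a) * a') * a
          = a * a' * (a * a') * u * (a' * a * (a' * a)) := by simp only [mul_assoc]
        _ = u := by rw [h1, h2, one_mul, mul_one]
  rw [Set.ncard_sdiff_singleton_of_mem (mem_left hx)] at hev
  have hpos := (Set.ncard_pos (Set.toFinite (line D x b))).2 ⟨x, mem_left hx⟩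
  obtain ⟨k, hk⟩ := hev
  exact ⟨k, by omega⟩

/-- Every member commutes with a member of every line. -/
theorem exists_commute_line (hx : x ∈ D) (ha : a ∈ dperp D x) (hd : d ∈ D) :
    ∃ z ∈ line D x a, Commute d z := by
  by_contra hcon
  push Not at hcon
  have hdx := hcon x (mem_left hx)
  have hda := hcon a (mem_right ha.1)
  set w := d * (x * a) * d with hw
  have hxa := ha.2.2
  have hwinv : w⁻¹ = w := by
    rw [hw, mul_inv_rev, mul_inv_rev, mul_inv_rev, inv_eq S.hT hd, inv_eq S.hT hx, inv_eq S.hT ha.1,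
      ← hxa.eq, ← mul_assoc]
  have hww' : w * w = 1 := by nth_rw 1 [← hwinv]; exact inv_mul_cancel w
  have hww : ∀ u, w * (w * u * w) * w = u := fun u => by
    rw [show w * (w * u * w) * w = (w * w) * u * (w * w) by simp only [mul_assoc], hww', one_mul,
      mul_one]
  have swap : ∀ {p q}, p ∈ D → q ∈ D → Commute p q → ¬ Commute d p → ¬ Commute d q →
      d * (p * q) * d * p * (d * (p * q) * d) = q := by
    intro p q hp hq hpq hdp hdq
    calc d * (p * q) * d * p * (d * (p * q) * d) = d * p * q * (d * p * d) * (p * q) * d := by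
          simp only [mul_assoc]
      _ = d * p * q * (p * d * p) * (p * q) * d := by rw [braid S.hT hd hp hdp]
      _ = d * p * (q * p) * (d * q * d) := by simp only [mul_assoc, mul_self_mul S.hT hp]
      _ = d * (p * p) * q * (q * d * q) := by
          rw [← hpq.eq, braid S.hT hd hq hdq]; simp only [mul_assoc]
      _ = q := by
          simp only [S.sq hp, mul_one, mul_assoc, mul_self_mul S.hT hq, mul_self_mul S.hT hd]
  have hwx : w * x * w = a := swap hx ha.1 hxa hdx hda
  have hwa : w * a * w = x := by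
    have := hww x
    rwa [hwx] at this
  have hmem : ∀ u ∈ line D x a, w * u * w ∈ line D x a := fun u hu => by
    have h1 := conj_mem_line S.hc w hu
    rwa [hwinv, hwx, hwa, line_swap] at h1
  have hev : Even ((line D x a \ {x, a}).ncard) := by
    refine even_of_involution (Set.toFinite _) (fun u => w * u * w) ?_ ?_ fun u _ => hww u
    · rintro u ⟨hu, hu'⟩
      refine ⟨hmem u hu, ?_⟩
      rintro (h | h)
      · exact hu' (Or.inr (by rw [Set.mem_singleton_iff, ← hww u, show w * u * w = x from h, hwx]))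
      · exact hu' (Or.inl (by rw [← hww u, show w * u * w = a from h, hwa]))
    · rintro u ⟨hu, hu'⟩ h
      have hdu := hcon u hu
      refine ha.2.1 ?_
      have hux : Commute u x := line_commute hx ha hu (mem_left hx)
      have hua : Commute u a := line_commute hx ha hu (mem_right ha.1)
      -- `x * a` commutes with `d * u * d = u * d * u`, hence with `d`
      have h1 : Commute w u := by
        show w * u = u * w
        calc w * u = w * u * (w * w) := by rw [hww', mul_one]
          _ = u * w := by rw [← mul_assoc, h]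
      have h3 : Commute (x * a) d := by
        have h2 := (commute_conj d w u).2 h1
        rw [inv_eq S.hT hd, hw, show d * (d * (x * a) * d) * d = x * a by
          simp only [mul_assoc, mul_self_mul S.hT hd, S.sq hd, mul_one], braid S.hT hd hu.1 hdu] at h2
        have h4 := (commute_conj u _ _).2 h2
        have hcm : Commute u (x * a) := hux.mul_right hua
        rw [hcm.eq, mul_inv_cancel_right, inv_eq S.hT hu.1] at h4
        simpa only [mul_assoc, mul_self_mul S.hT hu.1, S.sq hu.1, mul_one] using h4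
      refine S.move_inj ha.1 hx hd (fun e => hda e.symm) (fun e => hdx e.symm) ?_
      calc a * d * a = x * (x * a * d) * a := by simp only [mul_assoc, mul_self_mul S.hT hx]
        _ = x * (d * (x * a)) * a := by rw [h3.eq]
        _ = x * d * x := by simp only [mul_assoc, S.sq ha.1, mul_one]
  rw [Set.ncard_sdiff (Set.insert_subset (mem_left hx) (Set.singleton_subset_iff.2 (mem_right ha.1)))
    (Set.toFinite _), Set.ncard_pair (Ne.symm ha.2.1)] at hev
  have hodd := S.odd_line hx ha
  have hge : 2 ≤ (line D x a).ncard := by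
    rw [← Set.ncard_pair (Ne.symm ha.2.1)]
    exact Set.ncard_le_ncard (Set.insert_subset (mem_left hx)
      (Set.singleton_subset_iff.2 (mem_right ha.1))) (Set.toFinite _)
  obtain ⟨k, hk⟩ := hev
  obtain ⟨l, hl⟩ := hodd
  omega

end Hyp

theorem hyp_of_core (hsol : ∀ N : Subgroup G, N.Normal → Group.IsSolvable ↥N → N = ⊥)
    (hperf : ⁅commutator G, commutator G⁆ = commutator G) (hD : IsThreeTranspositionClass D)
    (hx : x ∈ D) (h : ¬ pCore 2 ↥(Subgroup.closure (dperp D x)) ≤
      Subgroup.center ↥(Subgroup.closure (dperp D x))) : Hyp D := by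
  set H := Subgroup.closure (dperp D x) with hH
  obtain ⟨k, hk, hkc⟩ := SetLike.not_le_iff_exists.1 h
  obtain ⟨y, hy, hyk⟩ : ∃ y ∈ dperp D x, ¬ Commute y (k : G) := by
    by_contra hcon
    push Not at hcon
    apply hkc
    rw [Subgroup.mem_center_iff]
    intro g
    apply Subtype.ext
    show (g : G) * k = k * g
    have hle : H ≤ Subgroup.centralizer ({(k : G)} : Set G) := by
      refine (Subgroup.closure_le _).2 ?_
      exact fun e he => Subgroup.mem_centralizer_singleton_iff.2 (hcon e he).eq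
    exact Subgroup.mem_centralizer_singleton_iff.1 (hle g.2)
  have hkx : Commute (k : G) x := LocalLines.commute_of_mem_closure hx k.2
  set z := (k : G) * y * (k : G)⁻¹ with hz
  have hzx : z ∈ dperp D x := by
    have h1 := dperp_conj (class_conj hD) (k : G) hy
    rwa [hkx.eq, mul_inv_cancel_right] at h1
  have hyz : y ≠ z := fun e => hyk <| by
    show y * k = k * y
    conv_lhs => rw [e, hz]
    group
  refine ⟨hsol, hperf, hD, x, y, z, hx, hy, hzx, hyz, fun e he hye => ?_⟩
  let y' : H := ⟨y, Subgroup.subset_closure hy⟩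
  let z' : H := ⟨z, Subgroup.subset_closure hzx⟩
  let e' : H := ⟨e, Subgroup.subset_closure he⟩
  have hset : IsThreeTranspositionSet {h : H | (h : G) ∈ dperp D x} :=
    ⟨fun h hh => by rw [← Subgroup.orderOf_coe]; exact hD.1.1 _ hh.1,
      fun h hh l hl => (hD.1.2 _ hh.1 _ hl.1).imp (fun e => Subtype.ext (by simpa using e))
        (fun e => Subtype.ext (by simpa using e))⟩
  have hmem : y'⁻¹ * z' ∈ pCore 2 H := by
    have h1 := mul_mem ((Core.pCore_normal (p := 2) (G := _)).conj_mem k hk y'⁻¹) (inv_mem hk)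
    convert h1 using 1
    refine Subtype.ext ?_
    simp only [y', z', hz, Subgroup.coe_mul, Subgroup.coe_inv, inv_inv]
    group
  exact LocalLines.commute_coe.2
    ((tau_of_mem_pCore hset (x := y') (y := z') hy hzx hmem e' he).1
      (LocalLines.commute_coe.1 hye) : Commute z' e')

end Cfsg.Agent.ThreeTrans.SpPSU
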