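import Cfsg.Agent.ThreeTrans.SpPSU.Coord
import Cfsg.Agent.ThreeTrans.SU32

/-!
# Labels of the lines through a member

Lines of three members are labelled by two elements, lines of five by the field with four elements.
The second needs one orientation for all lines: the composite around a triangle of noncommuting
representatives is even, as its cube is trivial.
-/

set_option autoImplicit false

open Cfsg

namespace Cfsg.Agent.ThreeTrans.SpPSU

open Cfsg.Agent.ThreeTrans.SU32

variable {G : Type*} [Group G] {D : Set G} {a d i j k s g : G}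

theorem commutator_cube {u v : G} (hu : u ^ 3 = 1) (hv : v ^ 3 = 1) (huv : (u * v) ^ 3 = 1)
    (hc : (u * v⁻¹) ^ 3 = 1) : (v⁻¹ * u⁻¹ * v * u) ^ 3 = 1 := by
  set c := u * v⁻¹ with hcdef
  set d := v⁻¹ * u with hddef
  have hd : d ^ 3 = 1 := by
    have h : d = u⁻¹ * c * u⁻¹⁻¹ := by rw [hcdef, hddef]; group
    rw [h, conj_pow, hc, mul_one, mul_inv_cancel]
  have hu' : u⁻¹ = u * u := inv_eq_of_mul_eq_one_left (by rw [← hu, pow_succ, sq])
  have hv' : v⁻¹ = v * v := inv_eq_of_mul_eq_one_left (by rw [← hv, pow_succ, sq])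
  have hvi : v⁻¹ * v⁻¹ = v := by rw [← mul_inv_rev, ← hv', inv_inv]
  have hkey : u * v * u = v⁻¹ * u⁻¹ * v⁻¹ := by
    have h : (u * v * u) * (v * u * v) = 1 := by
      rw [← huv, pow_succ, sq]; simp only [mul_assoc]
    rw [eq_inv_of_mul_eq_one_left h, mul_inv_rev, mul_inv_rev]; simp only [mul_assoc]
  have hcd : c * d = u * v * u := by
    rw [hcdef, hddef]
    calc u * v⁻¹ * (v⁻¹ * u) = u * (v⁻¹ * v⁻¹) * u := by simp only [mul_assoc]
      _ = u * v * u := by rw [hvi]
  have hdc : d * c = u * v * u := by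
    rw [hkey, hcdef, hddef, hu']
    simp only [mul_assoc]
  have hz : v⁻¹ * u⁻¹ * v * u = d * c * d := by
    calc v⁻¹ * u⁻¹ * v * u = v⁻¹ * (u * u) * (v⁻¹ * v⁻¹) * u := by rw [hu', hvi]
      _ = d * c * d := by rw [hcdef, hddef]; simp only [mul_assoc]
  have hcomm : Commute d c := hdc.trans hcd.symm
  have hdcd : Commute (d * c) d := (Commute.refl d).mul_left hcomm.symm
  rw [hz, hdcd.mul_pow, hcomm.mul_pow, hd, hc, one_mul, one_mul]

/-- On four points an involution without fixed points is a translation. -/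
theorem four_translation : ∀ f : F4 → F4, (∀ x, f (f x) = x) → (∀ x, f x ≠ x) → ∀ x, f x = x + f 0 := by
  decide +kernel

theorem two_translation : ∀ f : ZMod 2 → ZMod 2, (∀ x, f x ≠ x) → ∀ x, f x = x + f 0 := by
  decide +kernel

theorem perm_even : ∀ P : Equiv.Perm F4, P 0 = 0 → Equiv.Perm.sign P = 1 → ∀ x, P x = P 1 * x := by
  decide +kernel

/-- The automorphism as a permutation. -/
def frobPerm : Equiv.Perm F4 := ⟨F4.frob, F4.frob, by decide +kernel, by decide +kernel⟩

theorem sign_frobPerm : Equiv.Perm.sign frobPerm = -1 := by decide +kernel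

variable [Finite G]

omit [Finite G] in
theorem inv_three (hT : IsThreeTranspositionSet D) {u v w : G} (hu : u ∈ D) (hv : v ∈ D) (hw : w ∈ D) :
    (u * v * w)⁻¹ = w * (v * u) := by
  rw [mul_inv_rev, mul_inv_rev, inv_eq hT hu, inv_eq hT hv, inv_eq hT hw]

namespace Base

variable (B : Base D a d)
include B

theorem mid_commute (hi : i ∈ dperp D a) (hk : k ∈ dperp D a) : Commute (i * k * i) a :=
  (hi.2.2.symm.mul_left hk.2.2.symm).mul_left hi.2.2.symm

theorem mid_swap (hi : i ∈ D) (hk : k ∈ D) (h : ¬ Commute i k) : i * k * i * i * (i * k * i) = k := by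
  have hT := B.hyp.hT
  calc i * k * i * i * (i * k * i) = i * (k * i * k) * i := by simp only [mul_assoc, mul_self_mul hT hi]
    _ = k := by
      rw [← braid hT hi hk h]
      simp only [mul_assoc, mul_self_mul hT hi, B.hyp.sq hi, mul_one]

theorem mid_fib (hi : i ∈ dperp D a) (hk : k ∈ dperp D a) (h : ¬ Commute i k) (hs : s ∈ fib D a i) :
    i * k * i * s * (i * k * i) ∈ fib D a k := by
  have hm := B.hyp.mem_conj hi.1 hk.1
  have h1 := conj_mem_line B.hyp.hc (i * k * i) hs.1
  rw [(B.mid_commute hi hk).eq, mul_inv_cancel_right, inv_eq B.hyp.hT hm, B.mid_swap hi.1 hk.1 h] at h1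
  refine ⟨h1, fun e => hs.2 ?_⟩
  rw [Set.mem_singleton_iff] at e ⊢
  have h2 : i * k * i * a * (i * k * i) = a := conj_self_of_commute B.hyp.hT hm (B.mid_commute hi hk)
  refine mul_left_cancel (a := i * k * i) (mul_right_cancel (b := i * k * i) ?_)
  rw [h2]; exact e

/-- A translation takes a representative to the image of the translating member. -/
theorem trans_rep (hi : i ∈ dperp D a) (hk : k ∈ dperp D a) (h : ¬ Commute i k) (hs : s ∈ fib D a i) :
    i * (s * k * s) * i = i * k * i * s * (i * k * i) := by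
  have hT := B.hyp.hT
  have hsd := Hyp.fib_dperp B.ha hi hs
  have hsi : Commute i s := Hyp.line_commute B.ha hi (mem_right hi.1) hs.1
  have hsk : ¬ Commute s k := fun e => h ((B.hyp.commute_fib B.ha hi hs hk).1 e.symm).symm
  have hsm : ¬ Commute s (i * k * i) := fun e => hsk <| by
    have h1 := (commute_conj i _ _).2 e
    rw [hsi.eq, mul_inv_cancel_right, inv_eq hT hi.1] at h1
    simpa only [mul_assoc, mul_self_mul hT hi.1, B.hyp.sq hi.1, mul_one] using h1
  rw [← braid hT hsd.1 (B.hyp.mem_conj hi.1 hk.1) hsm]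
  calc i * (s * k * s) * i = (i * s) * k * (s * i) := by simp only [mul_assoc]
    _ = (s * i) * k * (i * s) := by rw [hsi.eq]
    _ = s * (i * k * i) * s := by simp only [mul_assoc]

theorem trans_invol (hi : i ∈ dperp D a) (hs : s ∈ fib D a i) (g : G) :
    i * (s * (i * (s * g * s) * i) * s) * i = g := by
  have hT := B.hyp.hT
  have hsi : Commute i s := Hyp.line_commute B.ha hi (mem_right hi.1) hs.1
  have h1 : i * s * (i * s) = 1 := by
    rw [mul_assoc, ← mul_assoc s i, ← hsi.eq, mul_assoc i s, mul_self_mul hT hi.1, B.hyp.sq hs.1.1]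
  have h2 : s * i * (s * i) = 1 := by rw [← hsi.eq]; exact h1
  calc i * (s * (i * (s * g * s) * i) * s) * i = i * s * (i * s) * g * (s * i * (s * i)) := by
        simp only [mul_assoc]
    _ = g := by rw [h1, h2, one_mul, mul_one]

theorem trans_ne (hi : i ∈ dperp D a) (hk : k ∈ dperp D a) (h : ¬ Commute i k) (hs : s ∈ fib D a i)
    (hne : s ≠ i) (hg : g ∈ fib D a k) : i * (s * g * s) * i ≠ g :=
  B.hyp.move_ne hi.1 hs.1.1 hg.1.1 hne
    (fun e => h ((B.hyp.commute_fib B.ha hk hg hi).1 e))
    (fun e => h ((B.hyp.commute_fib_fib B.ha hi hk hs hg).1 e))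

theorem triangle (hi : i ∈ dperp D a) (hj : j ∈ dperp D a) (hk : k ∈ dperp D a) (hij : ¬ Commute i j)
    (hjk : ¬ Commute j k) (hki : ¬ Commute k i) (hs : s ∈ fib D a i) :
    Commute ((k * i * k * (j * k * j) * (i * j * i)) ^ 3) s := by
  have hT := B.hyp.hT
  have hsq := fun {u : G} (hu : u ∈ D) => mul_self_mul hT hu
  have hsi : Commute i s := Hyp.line_commute B.ha hi (mem_right hi.1) hs.1
  by_cases hA : Commute (i * j * i) k
  · have hki' : k * i * k = j * k * j * (i * j * i) * (j * k * j) := by
      have h1 : Commute j (i * k * i) := by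
        have := (commute_conj i _ _).2 hA
        rw [inv_eq hT hi.1] at this
        simpa only [mul_assoc, hsq hi.1, B.hyp.sq hi.1, mul_one] using this
      rw [← braid hT hi.1 hk.1 fun e => hki e.symm, braid hT hi.1 hj.1 hij]
      calc i * k * i = j * (i * k * i) * j := (conj_self_of_commute hT hj.1 h1).symm
        _ = j * (k * i * k) * j := by rw [braid hT hi.1 hk.1 fun e => hki e.symm]
        _ = _ := by simp only [mul_assoc, hsq hj.1]
    have hg : k * i * k * (j * k * j) * (i * j * i) = j * k * j := by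
      rw [hki']
      simp only [mul_assoc, hsq hj.1, hsq hk.1, hsq hi.1, B.hyp.sq hi.1, B.hyp.sq hj.1, mul_one]
    rw [hg]
    have hmi : Commute (j * k * j) i := by
      have := (commute_conj j _ _).2 hA
      rw [braid hT hi.1 hj.1 hij, inv_eq hT hj.1] at this
      simpa only [mul_assoc, hsq hj.1, B.hyp.sq hj.1, mul_one] using this.symm
    exact Commute.pow_left (B.hyp.commute_of_two B.ha hi (mem_left B.ha) (mem_right hi.1)
      (Ne.symm hi.2.1) (B.hyp.mem_conj hj.1 hk.1) (B.mid_commute hj hk) hmi hs.1) 3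
  · set z := (i * k)⁻¹ * (i * j)⁻¹ * (i * k) * (i * j) with hz
    have hz3 : z ^ 3 = 1 := by
      refine commutator_cube (cube_of_not_commute hT hi.1 hj.1 hij)
        (cube_of_not_commute hT hi.1 hk.1 fun e => hki e.symm) ?_ ?_
      · rw [show i * j * (i * k) = i * j * i * k by simp only [mul_assoc]]
        exact cube_of_not_commute hT (B.hyp.mem_conj hi.1 hj.1) hk.1 hA
      · rw [mul_inv_rev, inv_eq hT hi.1, inv_eq hT hk.1,
          show i * j * (k * i) = i * (j * k) * i⁻¹ by rw [inv_eq hT hi.1]; simp only [mul_assoc],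
          conj_pow, cube_of_not_commute hT hj.1 hk.1 hjk, mul_one, mul_inv_cancel]
    set g := k * i * k * (j * k * j) * (i * j * i) with hg
    have hgz : g = i * z := by
      rw [hz, mul_inv_rev, mul_inv_rev, inv_eq hT hi.1, inv_eq hT hj.1, inv_eq hT hk.1]
      show g = i * (k * i * (j * i) * (i * k) * (i * j))
      rw [hg, ← braid hT hi.1 hk.1 fun e => hki e.symm]
      calc i * k * i * (j * k * j) * (i * j * i) = i * k * i * j * k * (j * (i * j * i)) := by
            simp only [mul_assoc]
        _ = i * k * i * j * k * (j * (j * i * j)) := by rw [braid hT hi.1 hj.1 hij]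
        _ = _ := by simp only [mul_assoc, hsq hj.1, hsq hi.1]
    have hgi : Commute g i := by
      have h1 : g * i * g⁻¹ = i := by
        have e1 := B.mid_swap hi.1 hj.1 hij
        have e2 := B.mid_swap hj.1 hk.1 hjk
        have e3 := B.mid_swap hk.1 hi.1 hki
        rw [hg, inv_three hT (B.hyp.mem_conj hk.1 hi.1) (B.hyp.mem_conj hj.1 hk.1)
          (B.hyp.mem_conj hi.1 hj.1)]
        calc k * i * k * (j * k * j) * (i * j * i) * i * (i * j * i * (j * k * j * (k * i * k)))
            = k * i * k * (j * k * j * (i * j * i * i * (i * j * i)) * (j * k * j)) * (k * i * k) := by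
              simp only [mul_assoc]
          _ = i := by rw [e1, e2, e3]
      rwa [mul_inv_eq_iff_eq_mul] at h1
    have hiz : Commute i z := by
      have : z = i * g := by rw [hgz, hsq hi.1]
      rw [this]
      exact (Commute.refl i).mul_right hgi.symm
    rw [hgz, hiz.mul_pow, hz3, mul_one, pow_succ, sq, B.hyp.sq hi.1, one_mul]
    exact hsi

/-- Labels by two elements for lines of three members. -/
theorem exists_coord_two (h3 : ∀ b ∈ dperp D a, (line D a b).ncard = 3) :
    Nonempty (Coord D a d (ZMod 2) (RingHom.id _)) := by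
  classical
  let H : Rep D a d → Rep D a d → ZMod 2 := fun i k => if Commute (i : G) k then 0 else 1
  let φ : Rep D a d → G → ZMod 2 := fun k g => if g = k then 0 else 1
  have huniq : ∀ (k : Rep D a d) (u v : G), u ∈ fib D a k → v ∈ fib D a k → u ≠ k → v ≠ k → u = v := by
    intro k u v hu hv huk hvk
    by_contra hne
    have hsub : ({a, (k : G), u, v} : Set G) ⊆ line D a k :=
      Set.insert_subset (mem_left B.ha) (Set.insert_subset (mem_right k.2.1)
        (Set.insert_subset hu.1 (Set.singleton_subset_iff.2 hv.1)))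
    have h1 := Set.ncard_le_ncard hsub (Set.toFinite _)
    have ha' : a ∉ ({(k : G), u, v} : Set G) := by
      rintro (e | e | e)
      · exact (B.rep_dperp k.2).2.1 e.symm
      · exact hu.2 e.symm
      · exact hv.2 e.symm
    rw [h3 _ (B.rep_dperp k.2), Set.ncard_insert_of_notMem ha',
      Set.ncard_eq_three.2 ⟨(k : G), u, v, Ne.symm huk, Ne.symm hvk, hne, rfl⟩] at h1
    omega
  refine ⟨⟨B, H, φ, fun x => rfl, by decide, fun i k => ?_, fun i k => ?_, fun k => ⟨fun g _ => trivial,
    ?_, ?_⟩, fun k => by simp [φ], ?_⟩⟩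
  · simp [H, Commute.symm_iff]
  · by_cases h : Commute (i : G) k <;> simp [H, h]
  · intro u hu v hv huv
    by_cases h1 : u = k <;> by_cases h2 : v = k
    · rw [h1, h2]
    · simp [φ, h1, h2] at huv
    · simp [φ, h1, h2] at huv
    · exact huniq k u v hu hv h1 h2
  · intro x _
    obtain ⟨z, hz, hza, hzk⟩ := B.hyp.exists_third B.ha (B.rep_dperp k.2)
    rcases (show x = 0 ∨ x = 1 by revert x; decide) with rfl | rfl
    · exact ⟨k, Hyp.self_mem_fib (B.rep_dperp k.2), by simp [φ]⟩
    · exact ⟨z, ⟨hz, hza⟩, by simp [φ, hzk]⟩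
  · intro i k hik s hs g hg
    have hH : H k i = 1 := if_neg fun e : Commute (k : G) i => hik e.symm
    rw [hH, one_mul]
    by_cases hsi : s = i
    · rw [hsi, show φ i i = 0 by simp [φ], add_zero]
      congr 1
      simp only [mul_assoc, mul_self_mul B.hyp.hT i.2.1, B.hyp.sq i.2.1, mul_one]
    · rw [show φ i s = 1 by simp [φ, hsi]]
      have hne := B.trans_ne (B.rep_dperp i.2) (B.rep_dperp k.2) hik hs hsi hg
      have hmem := B.hyp.fib_move B.ha (B.rep_dperp i.2) (B.rep_dperp k.2) hik
        (Hyp.self_mem_fib (B.rep_dperp i.2)) hs hg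
      by_cases hgk : g = k
      · subst hgk; simp [φ, hne]
      · have : (i : G) * (s * g * s) * i = k := by
          by_contra h
          exact hne (huniq k _ _ hmem hg h hgk)
        rw [this, show φ k k = 0 by simp [φ], show φ k g = 1 by simp [φ, hgk]]
        decide

/-- Labels by four elements for lines of five members. -/
theorem exists_coord_four (h5 : ∀ b ∈ dperp D a, (line D a b).ncard = 5) :
    Nonempty (Coord D a d F4 F4.frob) := by
  classical
  have hT := B.hyp.hT
  let J := Rep D a d
  let Fb : J → Type _ := fun k => ↥(fib D a (k : G))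
  have hlab : ∀ k : J, ∃ e : ↥(fib D a (k : G)) ≃ F4, e ⟨k, Hyp.self_mem_fib (B.rep_dperp k.2)⟩ = 0 := by
    intro k
    have hc : Nat.card ↥(fib D a (k : G)) = Nat.card F4 := by
      rw [Nat.card_coe_set_eq, fib, Set.ncard_sdiff_singleton_of_mem (mem_left B.ha),
        h5 _ (B.rep_dperp k.2), Nat.card_eq_fintype_card, F4.card_eq]
    obtain ⟨e⟩ := Finite.card_eq.1 hc
    exact ⟨e.trans (Equiv.swap (e ⟨k, Hyp.self_mem_fib (B.rep_dperp k.2)⟩) 0), by simp⟩
  choose e he using hlab
  let cj : ∀ i k : J, ¬ Commute (i : G) k → ↥(fib D a (i : G)) ≃ ↥(fib D a (k : G)) := fun i k h =>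
    { toFun := fun u => ⟨_, B.mid_fib (B.rep_dperp i.2) (B.rep_dperp k.2) h u.2⟩
      invFun := fun u => ⟨_, B.mid_fib (B.rep_dperp k.2) (B.rep_dperp i.2) (fun e => h e.symm) u.2⟩
      left_inv := fun u => Subtype.ext (by
        show (k : G) * i * k * ((i : G) * k * i * u * (i * k * i)) * (k * i * k) = u
        rw [← braid hT i.2.1 k.2.1 h]
        simp only [mul_assoc, mul_self_mul hT i.2.1, mul_self_mul hT k.2.1, B.hyp.sq i.2.1,
          mul_one])
      right_inv := fun u => Subtype.ext (by
        show (i : G) * k * i * ((k : G) * i * k * u * (k * i * k)) * (i * k * i) = u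
        rw [← braid hT i.2.1 k.2.1 h]
        simp only [mul_assoc, mul_self_mul hT i.2.1, mul_self_mul hT k.2.1, B.hyp.sq i.2.1,
          mul_one]) }
  let P : J → J → Equiv.Perm F4 := fun i k =>
    if h : Commute (i : G) k then Equiv.refl _ else (e i).symm.trans ((cj i k h).trans (e k))
  let p : J → J → ℤˣ := fun i k => Equiv.Perm.sign (P i k)
  have hsym : ∀ i k, p k i = p i k := by
    intro i k
    have : P k i = (P i k).symm := by
      by_cases h : Commute (i : G) k
      · simp [P, h, h.symm]
      · have h' : ¬ Commute (k : G) i := fun e => h e.symm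
        simp only [P, dif_neg h, dif_neg h']
        rfl
    simp [p, this]
  have hPtri : ∀ i j k : J, ¬ Commute (i : G) j → ¬ Commute (j : G) k → ¬ Commute (k : G) i →
      p i j * p j k * p k i = 1 := by
    intro i j k hij hjk hki
    let R : Equiv.Perm F4 := (P i j).trans ((P j k).trans (P k i))
    have hR : Equiv.Perm.sign R = p i j * p j k * p k i := by
      simp only [R, Equiv.Perm.sign_trans, p]
      ac_rfl
    have hR3 : R ^ 3 = 1 := by
      refine Equiv.ext fun x => ?_
      obtain ⟨u, rfl⟩ := (e i).surjective x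
      set g := (k : G) * i * k * ((j : G) * k * j) * ((i : G) * j * i) with hg
      have hgv : ∀ v : ↥(fib D a (i : G)), ∃ hv, R (e i v) = e i ⟨g * v * g⁻¹, hv⟩ := by
        intro v
        have hmem : g * v * g⁻¹ ∈ fib D a (i : G) := by
          have := ((cj i j hij).trans ((cj j k hjk).trans (cj k i hki))) v |>.2
          simp only [cj, Equiv.trans_apply, Equiv.coe_fn_mk] at this
          convert this using 1
          rw [hg, inv_three hT (B.hyp.mem_conj k.2.1 i.2.1) (B.hyp.mem_conj j.2.1 k.2.1)
            (B.hyp.mem_conj i.2.1 j.2.1)]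
          simp only [mul_assoc]
        refine ⟨hmem, ?_⟩
        simp only [R, P, dif_neg hij, dif_neg hjk, dif_neg hki, Equiv.trans_apply,
          Equiv.symm_apply_apply, cj, Equiv.coe_fn_mk]
        congr 1
        refine Subtype.ext ?_
        show _ = g * (v : G) * g⁻¹
        rw [hg, inv_three hT (B.hyp.mem_conj k.2.1 i.2.1) (B.hyp.mem_conj j.2.1 k.2.1)
            (B.hyp.mem_conj i.2.1 j.2.1)]
        simp only [mul_assoc]
      obtain ⟨h1, e1⟩ := hgv u
      obtain ⟨h2, e2⟩ := hgv ⟨_, h1⟩
      obtain ⟨h3, e3⟩ := hgv ⟨_, h2⟩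
      rw [Equiv.Perm.coe_one, id, pow_succ, pow_succ, pow_one, Equiv.Perm.mul_apply,
        Equiv.Perm.mul_apply, e1, e2, e3]
      congr 1
      refine Subtype.ext ?_
      have hc := (B.triangle (B.rep_dperp i.2) (B.rep_dperp j.2) (B.rep_dperp k.2) hij hjk hki u.2).eq
      rw [← hg] at hc
      calc g * (g * (g * (u : G) * g⁻¹) * g⁻¹) * g⁻¹ = g ^ 3 * u * (g ^ 3)⁻¹ := by
            simp only [pow_succ, pow_zero, one_mul, mul_inv_rev, mul_assoc]
        _ = u := by rw [hc, mul_inv_cancel_right]
    rw [← hR]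
    have h2 := congrArg Equiv.Perm.sign hR3
    rw [map_pow, map_one, pow_succ, Int.units_sq, one_mul] at h2
    exact h2
  have tri : ∀ i j k : J, ¬ Commute (i : G) j → ¬ Commute (j : G) k → ¬ Commute (k : G) i →
      p i k = p i j * p j k := by
    intro i j k h1 h2 h3
    rw [hsym k i, ← mul_one (p k i), ← hPtri i j k h1 h2 h3]
    rw [mul_comm (p i j * p j k) (p k i), ← mul_assoc, Int.units_mul_self, one_mul]
  obtain ⟨r⟩ : Nonempty J := ⟨⟨_, B.exists_rep_mem.some_mem⟩⟩
  have hnear : ∀ i : J, i ≠ r → Commute (r : G) i →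
      ∃ j : J, ¬ Commute (r : G) j ∧ ¬ Commute (j : G) i := by
    intro i hne hri
    rcases B.rep_near r.2 i.2 with h | h | ⟨j, hj, h1, h2⟩
    · exact absurd (Subtype.ext h.symm) hne
    · exact absurd hri h
    · exact ⟨⟨j, hj⟩, h1, h2⟩
  choose via hvia1 hvia2 using hnear
  let ε : J → ℤˣ := fun i =>
    if h : i = r then 1 else if h' : Commute (r : G) i then p r (via i h h') * p (via i h h') i else p r i
  -- independence of the intermediate
  have ind : ∀ i : J, Commute (r : G) i → ∀ k k' : J, ¬ Commute (r : G) k → ¬ Commute (k : G) i →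
      ¬ Commute (r : G) k' → ¬ Commute (k' : G) i → p r k * p k i = p r k' * p k' i := by
    have base : ∀ i k k' : J, ¬ Commute (r : G) k → ¬ Commute (k : G) i → ¬ Commute (r : G) k' →
        ¬ Commute (k' : G) i → ¬ Commute (k : G) k' → p r k * p k i = p r k' * p k' i := by
      intro i k k' h1 h2 h3 h4 h5
      rw [tri r k k' h1 h5 (fun e => h3 e.symm), tri k k' i h5 h4 (fun e => h2 e.symm), mul_assoc]
    intro i hri k k' h1 h2 h3 h4
    by_cases h5 : Commute (k : G) k'
    · let q : J := ⟨(k : G) * r * k, B.rep_conj k.2 r.2⟩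
      have hqr : ¬ Commute (r : G) q := commute_conj_mem hT r.2.1 k.2.1 h1
      have hkq : ¬ Commute (k : G) q := fun e => by
        have e' : Commute (k : G) ((k : G) * r * k) := e
        rw [braid hT k.2.1 r.2.1 fun h => h1 h.symm] at e'
        exact commute_conj_mem hT k.2.1 r.2.1 (fun h => h1 h.symm) e'
      have hqi : ¬ Commute (q : G) i := fun e => by
        have e' : Commute ((k : G) * r * k) i := e
        rw [braid hT k.2.1 r.2.1 fun h => h1 h.symm] at e'
        have h6 := (commute_conj (r : G) _ _).2 e'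
        rw [hri.eq, mul_inv_cancel_right, inv_eq hT r.2.1] at h6
        simp only [mul_assoc, mul_self_mul hT r.2.1, B.hyp.sq r.2.1, mul_one] at h6
        exact h2 h6
      have hqk' : ¬ Commute (q : G) k' := fun e => by
        have e' : Commute ((k : G) * r * k) k' := e
        have h6 := (commute_conj (k : G) _ _).2 e'
        rw [h5.eq, mul_inv_cancel_right, inv_eq hT k.2.1] at h6
        simp only [mul_assoc, mul_self_mul hT k.2.1, B.hyp.sq k.2.1, mul_one] at h6
        exact h3 h6
      rw [base i k q h1 h2 hqr hqi hkq, base i q k' hqr hqi h3 h4 hqk']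
    · exact base i k k' h1 h2 h3 h4 h5
  have hr : ε r = 1 := dif_pos rfl
  have hN : ∀ i : J, ¬ Commute (r : G) i → ε i = p r i := by
    intro i h
    have : i ≠ r := fun e => h (e ▸ Commute.refl _)
    simp [ε, this, h]
  have hM : ∀ i : J, i ≠ r → Commute (r : G) i → ∀ k : J, ¬ Commute (r : G) k → ¬ Commute (k : G) i →
      ε i = p r k * p k i := by
    intro i h h' k h1 h2
    simp only [ε, dif_neg h, dif_pos h']
    exact ind i h' _ k (hvia1 i h h') (hvia2 i h h') h1 h2
  have hedge : ∀ i k : J, ¬ Commute (i : G) k → ε i * ε k = p i k := by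
    have one : ∀ i k : J, ¬ Commute (i : G) k → ¬ Commute (r : G) i → ε i * ε k = p i k := by
      intro i k hik hri
      rw [hN i hri]
      by_cases hrk : Commute (r : G) k
      · rcases eq_or_ne k r with h | hkr
        · rw [h, hr, mul_one, hsym]
        · rw [hM k hkr hrk i hri hik, ← mul_assoc, Int.units_mul_self, one_mul]
      · rw [hN k hrk, tri r i k hri hik (fun e => hrk e.symm), ← mul_assoc, Int.units_mul_self, one_mul]
    intro i k hik
    by_cases hri : Commute (r : G) i
    · by_cases hrk : Commute (r : G) k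
      · -- both commute with the root
        have hir : i ≠ r := fun e => hik (e ▸ hrk)
        have hkr : k ≠ r := fun e => hik (e ▸ hri.symm)
        obtain ⟨q, hq1, hq2, hq3⟩ : ∃ q : J, ¬ Commute (r : G) q ∧ ¬ Commute (q : G) i ∧
            ¬ Commute (q : G) k := by
          let j := via i hir hri
          by_cases h : Commute (j : G) k
          · refine ⟨⟨(i : G) * j * i, B.rep_conj i.2 j.2⟩, fun e => hvia1 i hir hri ?_,
              fun e => commute_conj_mem hT i.2.1 j.2.1 (fun e => hvia2 i hir hri e.symm) ?_,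
              fun e => hik ?_⟩
            · have e' : Commute (r : G) ((i : G) * j * i) := e
              have h6 := (commute_conj (i : G) _ _).2 e'
              rw [hri.symm.eq, mul_inv_cancel_right, inv_eq hT i.2.1] at h6
              simpa only [mul_assoc, mul_self_mul hT i.2.1, B.hyp.sq i.2.1, mul_one] using h6
            · have e' : Commute ((i : G) * j * i) i := e
              rw [braid hT i.2.1 j.2.1 fun e => hvia2 i hir hri e.symm] at e'
              exact e'.symm
            · have e' : Commute ((i : G) * j * i) k := e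
              rw [braid hT i.2.1 j.2.1 fun e => hvia2 i hir hri e.symm] at e'
              have h6 := (commute_conj (j : G) _ _).2 e'
              rw [h.eq, mul_inv_cancel_right, inv_eq hT j.2.1] at h6
              simpa only [mul_assoc, mul_self_mul hT j.2.1, B.hyp.sq j.2.1, mul_one] using h6
          · exact ⟨j, hvia1 i hir hri, hvia2 i hir hri, h⟩
        rw [hM i hir hri q hq1 hq2, hM k hkr hrk q hq1 hq3, tri i q k (fun e => hq2 e.symm) hq3
          (fun e => hik e.symm), hsym q i]
        rw [mul_mul_mul_comm, Int.units_mul_self, one_mul]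
      · rw [mul_comm, one k i (fun e => hik e.symm) hrk, hsym]
    · exact one i k hik hri
  let E : J → Equiv.Perm F4 := fun i => if ε i = 1 then Equiv.refl _ else frobPerm
  have hE : ∀ i, Equiv.Perm.sign (E i) = ε i := fun i => by
    rcases Int.units_eq_one_or (ε i) with h | h
    · simp [E, h]
    · simp [E, h, sign_frobPerm]
  have hE0 : ∀ i, E i 0 = 0 := fun i => by
    by_cases h : ε i = 1 <;> simp [E, h, frobPerm]
  let φe : ∀ i : J, ↥(fib D a (i : G)) ≃ F4 := fun i => (e i).trans (E i)
  let φ : J → G → F4 := fun i g => if h : g ∈ fib D a (i : G) then φe i ⟨g, h⟩ else 0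
  have hφ : ∀ (i : J) (u : ↥(fib D a (i : G))), φ i u = φe i u := fun i u => by simp [φ, u.2]
  let H : J → J → F4 := fun k i =>
    if h : Commute (i : G) k then 0 else φe k (cj i k h ((φe i).symm 1))
  have hlin : ∀ (i k : J) (h : ¬ Commute (i : G) k) (u : ↥(fib D a (i : G))),
      φe k (cj i k h u) = H k i * φe i u := by
    intro i k h u
    let R : Equiv.Perm F4 := (φe i).symm.trans ((cj i k h).trans (φe k))
    have hRs : R = (E i).symm.trans ((P i k).trans (E k)) := by
      refine Equiv.ext fun x => ?_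
      simp [R, φe, P, h]
    have hR0 : R 0 = 0 := by
      have h0 : (φe i).symm 0 = ⟨i, Hyp.self_mem_fib (B.rep_dperp i.2)⟩ := by
        rw [Equiv.symm_apply_eq]; simp [φe, he, hE0]
      have h1 : cj i k h ⟨i, Hyp.self_mem_fib (B.rep_dperp i.2)⟩ =
          ⟨k, Hyp.self_mem_fib (B.rep_dperp k.2)⟩ := Subtype.ext (B.mid_swap i.2.1 k.2.1 h)
      show φe k (cj i k h ((φe i).symm 0)) = 0
      rw [h0, h1]; simp [φe, he, hE0]
    have hs : Equiv.Perm.sign R = 1 := by
      rw [hRs, Equiv.Perm.sign_trans, Equiv.Perm.sign_trans, Equiv.Perm.sign_symm, hE, hE]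
      rw [mul_assoc, mul_comm (Equiv.Perm.sign (P i k)), ← mul_assoc, mul_comm (ε k) (ε i), hedge i k h]
      exact Int.units_mul_self _
    have h2 := perm_even R hR0 hs (φe i u)
    simpa [R, H, h] using h2
  have hH0 : ∀ i k : J, H k i = 0 ↔ Commute (i : G) k := by
    intro i k
    refine ⟨fun h => ?_, fun h => dif_pos h⟩
    by_contra hn
    obtain ⟨u, hu⟩ := ((cj i k hn).trans (φe k)).surjective 1
    have h3 := hlin i k hn u
    rw [h, zero_mul] at h3
    rw [Equiv.trans_apply, h3] at hu
    exact zero_ne_one hu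
  refine ⟨⟨B, H, φ, by decide, by decide, fun i k => ?_, fun i k => (hH0 k i).trans Commute.symm_iff,
    fun i => ⟨fun g _ => trivial, ?_, ?_⟩,
    fun i => ?_, ?_⟩⟩
  · by_cases h : Commute (k : G) i
    · rw [(hH0 k i).2 h, (hH0 i k).2 h.symm, map_zero]
    · have h' : ¬ Commute (i : G) k := fun e => h e.symm
      have h1 := hlin i k h' ((φe i).symm 1)
      rw [Equiv.apply_symm_apply, mul_one] at h1
      have h2 := hlin k i h (cj i k h' ((φe i).symm 1))
      rw [h1, show cj k i h (cj i k h' ((φe i).symm 1)) = (φe i).symm 1 from (cj i k h').left_inv _,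
        Equiv.apply_symm_apply] at h2
      have key : ∀ x y : F4, 1 = x * y → F4.frob x = y := by decide +kernel
      exact key _ _ h2
  · intro u hu v hv huv
    have := (φe i).injective (show φe i ⟨u, hu⟩ = φe i ⟨v, hv⟩ by simpa [φ, hu, hv] using huv)
    exact congrArg Subtype.val this
  · intro x _
    exact ⟨_, ((φe i).symm x).2, by rw [hφ, Equiv.apply_symm_apply]⟩
  · rw [show φ i i = φe i ⟨i, Hyp.self_mem_fib (B.rep_dperp i.2)⟩ from hφ i ⟨i, _⟩]
    simp [φe, he, hE0]
  · intro i k hik s hs g hg
    have hid := B.rep_dperp i.2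
    have hkd := B.rep_dperp k.2
    by_cases hsi : s = i
    · have h0 : φ i s = 0 := by
        rw [hsi, show φ i i = φe i ⟨i, Hyp.self_mem_fib hid⟩ from hφ i ⟨i, _⟩]
        simp [φe, he, hE0]
      rw [h0, mul_zero, add_zero]
      congr 1
      rw [hsi]
      simp only [mul_assoc, mul_self_mul hT i.2.1, B.hyp.sq i.2.1, mul_one]
    · let T : ↥(fib D a (k : G)) → ↥(fib D a (k : G)) := fun u =>
        ⟨_, B.hyp.fib_move B.ha hid hkd hik (Hyp.self_mem_fib hid) hs u.2⟩
      let f : F4 → F4 := fun x => φe k (T ((φe k).symm x))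
      have h1 : ∀ x, f (f x) = x := fun x => by
        have : T (T ((φe k).symm x)) = (φe k).symm x := Subtype.ext (B.trans_invol hid hs _)
        simp [f, this]
      have h2 : ∀ x, f x ≠ x := fun x h => by
        have : T ((φe k).symm x) = (φe k).symm x := by
          rw [Equiv.eq_symm_apply]; exact h
        exact B.trans_ne hid hkd hik hs hsi ((φe k).symm x).2 (congrArg Subtype.val this)
      have h3 := four_translation f h1 h2 (φe k ⟨g, hg⟩)
      have h0 : (φe k).symm 0 = ⟨k, Hyp.self_mem_fib hkd⟩ := by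
        rw [Equiv.symm_apply_eq]; simp [φe, he, hE0]
      have h4 : f 0 = H k i * φ i s := by
        have : T ⟨k, Hyp.self_mem_fib hkd⟩ = cj i k hik ⟨s, hs⟩ :=
          Subtype.ext (B.trans_rep hid hkd hik hs)
        show φe k (T ((φe k).symm 0)) = _
        rw [h0, this, hlin i k hik, show φ i s = φe i ⟨s, hs⟩ from hφ i ⟨s, hs⟩]
      simp only [f, Equiv.symm_apply_apply] at h3
      rw [show φ k ((i : G) * (s * g * s) * i) = φe k (T ⟨g, hg⟩) from hφ k (T ⟨g, hg⟩), h3,
        show φe k ⟨g, hg⟩ = φ k g from (hφ k ⟨g, hg⟩).symm]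
      exact congrArg _ h4

end Base

end Cfsg.Agent.ThreeTrans.SpPSU
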