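import Cfsg.Agent.ThreeTrans.SpPSU.Symp

/-!
# Lines of five members: isotropic vectors

The members not commuting with `a` get a scalar besides their coordinates: zero for partners of `d`,
otherwise read off from the third member with `d`. It is equivariant for the translations, so the
members become the isotropic points of a Hermitian space, commuting being orthogonality.
-/

set_option autoImplicit false

open Cfsg

namespace Cfsg.Agent.ThreeTrans.SpPSU

open Cfsg.Agent.ThreeTrans.SU32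

variable {G : Type*} [Group G] {D : Set G} {a d : G}

theorem f4_two (x : F4) : x + x = 0 := by revert x; decide +kernel

theorem f4_fix : ∀ x : F4, F4.frob x = x → x = 0 ∨ x = 1 := by decide +kernel

theorem f4_norm : ∀ x : F4, x ≠ 0 → F4.frob x * x = 1 := by decide +kernel

theorem f4_invol : ∀ x : F4, F4.frob (F4.frob x) = x := by decide +kernel

theorem f4_trace : ∀ x : F4, x + F4.frob x = 0 ∨ x + F4.frob x = 1 := by decide +kernel

variable [Finite G] {p p' q g gx gy : G}

namespace Coord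

variable (C : Coord D a d F4 F4.frob) [Fintype (Rep D a d)] {u w x y : Rep D a d → F4} {i k : Rep D a d}

include C

theorem form_self_cases (hu : u ∈ C.U) : C.form u u = 0 ∨ C.form u u = 1 :=
  f4_fix _ (C.form_symm hu hu)

theorem form_add_self (hx : x ∈ C.U) (hy : y ∈ C.U) :
    C.form (x + y) (x + y) = C.form x x + C.form y y + (C.form x y + F4.frob (C.form x y)) := by
  rw [C.form_add_left hx hy (add_mem hx hy), C.form_add_right, C.form_add_right, C.form_symm hx hy]
  ring

theorem form_smul_col (μ : F4) (k : Rep D a d) : C.form (μ • C.col k) (μ • C.col k) = 0 := by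
  rw [C.form_smul_left _ (C.col_mem _) (Submodule.smul_mem _ _ (C.col_mem _)), C.form_smul_right,
    C.form_col_self, mul_zero, mul_zero]

theorem smul_coord (hu : u ∈ C.U) {μ : F4} (hμ : μ ≠ 0) (k : Rep D a d) :
    C.form (μ • C.col k) u • (μ • C.col k) = u k • C.col k := by
  rw [C.form_smul_left _ (C.col_mem _) hu, C.form_col hu, smul_smul,
    show F4.frob μ * u k * μ = u k by rw [mul_right_comm, f4_norm μ hμ, one_mul]]

/-- Two members have coordinates zero and the isotropic vectors come from the lines. -/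
theorem count_four (i : Rep D a d) :
    C.K0.ncard = 2 ∧ ∀ x ∈ C.isoOne i, ∃ (k : Rep D a d) (μ : F4), x = μ • C.col k := by
  classical
  obtain ⟨k₀, hk₀, hik⟩ := C.base.exists_nc_rep i.2
  have hv : C.col ⟨k₀, hk₀⟩ i ≠ 0 := fun h => hik ((C.zero_iff i ⟨k₀, hk₀⟩).1 h)
  set v := (C.col ⟨k₀, hk₀⟩ i)⁻¹ • C.col ⟨k₀, hk₀⟩ with hvdef
  have hv1 : v i = 1 := by simp [hvdef, hv]
  have hvU : v ∈ C.U := Submodule.smul_mem _ _ (C.col_mem _)
  set W1 := {x | x ∈ C.U ∧ x i = 1} with hW1
  have hW : W1.ncard ≤ (C.ker i).ncard := by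
    refine Set.ncard_le_ncard_of_injOn (fun x => x + v) (fun x hx => ?_)
      (fun x _ y _ h => add_right_cancel h) (Set.toFinite _)
    exact ⟨add_mem hx.1 hvU, by rw [Pi.add_apply, hx.2, hv1]; exact f4_two 1⟩
  have hN : (C.isoOne i).ncard + (C.isoOne i).ncard ≤ W1.ncard := by
    let f : (Rep D a d → F4) → (Rep D a d → F4) := fun x => x + F4.w • C.col i
    have hf : ∀ x ∈ C.isoOne i, f x ∈ W1 ∧ C.form (f x) (f x) = 1 := by
      intro x hx
      have hc : F4.w • C.col i ∈ C.U := Submodule.smul_mem _ _ (C.col_mem _)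
      refine ⟨⟨add_mem hx.1 hc, by simp [f, col, hx.2.1, C.H_self]⟩, ?_⟩
      rw [C.form_add_self hx.1 hc, hx.2.2, C.form_smul_col, C.form_smul_right,
        ← C.form_symm (C.col_mem i) hx.1, C.form_col hx.1, hx.2.1, map_one, mul_one]
      decide +kernel
    have hdisj : Disjoint (C.isoOne i) (f '' C.isoOne i) := by
      rw [Set.disjoint_left]
      rintro z hz ⟨x, hx, rfl⟩
      exact zero_ne_one (hz.2.2.symm.trans (hf x hx).2)
    have hsub : C.isoOne i ∪ f '' C.isoOne i ⊆ W1 := by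
      rintro z (hz | ⟨x, hx, rfl⟩)
      exacts [⟨hz.1, hz.2.1⟩, (hf x hx).1]
    have h1 := Set.ncard_le_ncard hsub (Set.toFinite _)
    rwa [Set.ncard_union_eq hdisj (Set.toFinite _) (Set.toFinite _),
      Set.ncard_image_of_injective _ fun x y h => add_right_cancel h] at h1
  obtain ⟨c1, c2⟩ := C.count i
  rw [F4.card_eq] at c1 c2
  have hker : 0 < (C.ker i).ncard := (Set.ncard_pos (Set.toFinite _)).2 ⟨0, zero_mem _, rfl⟩
  have hK : C.K0.ncard = 2 := by
    refine le_antisymm ?_ C.two_le_K0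
    by_contra hlt
    have : 3 * (C.ker i).ncard ≤ C.K0.ncard * (C.ker i).ncard := Nat.mul_le_mul_right _ (by omega)
    omega
  exact ⟨hK, c2 (by rw [hK] at c1 ⊢; omega)⟩

theorem K0_eq : C.K0.ncard = 2 := by
  obtain ⟨i, hi⟩ := C.base.exists_rep_mem
  exact (C.count_four ⟨i, hi⟩).1

theorem iso_cases (hx : x ∈ C.U) (hx0 : x ≠ 0) (h : C.form x x = 0) :
    ∃ (k : Rep D a d) (μ : F4), μ ≠ 0 ∧ x = μ • C.col k := by
  obtain ⟨i, hi⟩ := Function.ne_iff.1 hx0
  simp only [Pi.zero_apply] at hi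
  obtain ⟨k, μ, hk⟩ := (C.count_four i).2 ((x i)⁻¹ • x)
    ⟨Submodule.smul_mem _ _ hx, by simp [hi],
      by rw [C.form_smul_left _ hx (Submodule.smul_mem _ _ hx), C.form_smul_right, h, mul_zero, mul_zero]⟩
  refine ⟨k, x i * μ, mul_ne_zero hi fun e => ?_, by rw [mul_smul, ← hk, smul_inv_smul₀ hi]⟩
  rw [e, zero_smul, smul_eq_zero] at hk
  exact hk.elim (inv_ne_zero hi) hx0

/-! ### Translations -/

/-- `g` is the translation by `x` that moves `d` to a partner. -/
def IsT (x : Rep D a d → F4) (g : G) : Prop :=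
  (x = 0 ∧ g = 1) ∨ ∃ k : Rep D a d, ∃ s ∈ fib D a k, C.φ k s ≠ 0 ∧ x = C.φ k s • C.col k ∧ g = a * k * s

theorem exists_T (hx : x ∈ C.U) (h : C.form x x = 0) : ∃ g, C.IsT x g := by
  rcases eq_or_ne x 0 with rfl | hx0
  · exact ⟨1, Or.inl ⟨rfl, rfl⟩⟩
  obtain ⟨k, μ, hμ, rfl⟩ := C.iso_cases hx hx0 h
  obtain ⟨s, hs, rfl⟩ := (C.bij k).surjOn (Set.mem_univ μ)
  exact ⟨_, Or.inr ⟨k, s, hs, hμ, rfl, rfl⟩⟩

theorem T_mem (hg : C.IsT x g) : x ∈ C.U ∧ C.form x x = 0 ∧ g ∈ cen D a ∧ g⁻¹ = g := by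
  rcases hg with ⟨rfl, rfl⟩ | ⟨k, s, hs, -, rfl, rfl⟩
  · refine ⟨zero_mem _, ?_, one_mem _, inv_one⟩
    rw [C.form_eq (y := 0) (zero_mem _)] <;> simp
  · refine ⟨Submodule.smul_mem _ _ (C.col_mem _), C.form_smul_col _ _,
      mul_mem (mul_mem Base.self_mem_cen (Base.dperp_mem_cen (C.rep k)))
        (Base.dperp_mem_cen (C.fib_d hs)), ?_⟩
    have h1 : Commute (k : G) s := Hyp.line_commute C.base.ha (C.rep k) (mem_right k.2.1) hs.1
    rw [mul_inv_rev, mul_inv_rev, inv_eq C.hT C.base.ha, inv_eq C.hT k.2.1, inv_eq C.hT hs.1.1,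
      ← mul_assoc, ← h1.eq]
    exact ((C.rep k).2.2.mul_right (C.fib_d hs).2.2).eq.symm.trans (mul_assoc _ _ _).symm

theorem T_c (hg : C.IsT x g) (hq : q ∈ NP D a) : C.c (g * q * g⁻¹) = C.c q + x := by
  rcases hg with ⟨rfl, rfl⟩ | ⟨k, s, hs, -, rfl, rfl⟩
  · simp
  · have h2 : (k : G) * (s * q * s) * k ∈ NP D a := C.np_conj' (C.rep k) (C.np_conj' (C.fib_d hs) hq)
    rw [mul_inv_rev, mul_inv_rev, inv_eq C.hT C.base.ha, inv_eq C.hT k.2.1, inv_eq C.hT hs.1.1,
      show a * k * s * q * (s * (k * a)) = a * ((k : G) * (s * q * s) * k) * a by simp only [mul_assoc],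
      C.c_aa h2, C.c_trans hq hs]

theorem T_fib (hg : C.IsT x g) {l : Rep D a d} {v : G} (hv : v ∈ fib D a l) :
    g * v * g⁻¹ ∈ fib D a l ∧ C.φ l (g * v * g⁻¹) = C.φ l v + x l := by
  rcases hg with ⟨rfl, rfl⟩ | ⟨k, s, hs, -, rfl, rfl⟩
  · simpa using hv
  · have hvd := C.fib_d hv
    rw [mul_inv_rev, mul_inv_rev, inv_eq C.hT C.base.ha, inv_eq C.hT k.2.1, inv_eq C.hT hs.1.1,
      show a * k * s * v * (s * (k * a)) = a * ((k : G) * (s * v * s) * k) * a by simp only [mul_assoc]]
    have hm : (k : G) * (s * v * s) * k ∈ fib D a l ∧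
        C.φ l ((k : G) * (s * v * s) * k) = C.φ l v + (C.φ k s • C.col k) l := by
      simp only [Pi.smul_apply, smul_eq_mul, col]
      by_cases h : Commute (k : G) l
      · have h1 : Commute s v := (C.hyp.commute_fib_fib C.base.ha (C.rep k) (C.rep l) hs hv).2 h
        have h2 : Commute (k : G) v :=
          (C.hyp.commute_fib_fib C.base.ha (C.rep k) (C.rep l) (C.self_fib k) hv).2 h
        rw [conj_self_of_commute C.hT hs.1.1 h1, conj_self_of_commute C.hT k.2.1 h2,
          (C.zero_iff l k).2 h.symm, mul_zero, add_zero]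
        exact ⟨hv, rfl⟩
      · exact ⟨C.hyp.fib_move C.base.ha (C.rep k) (C.rep l) h (C.self_fib k) hs hv,
          by rw [C.trans k l h s hs v hv, mul_comm]⟩
    rw [conj_self_of_commute C.hT C.base.ha (C.fib_d hm.1).2.2]
    exact hm

theorem T_d (hg : C.IsT x g) : Commute d (g * d * g⁻¹) := by
  rcases hg with ⟨rfl, rfl⟩ | ⟨k, s, hs, hμ, rfl, rfl⟩
  · simp
  · have hsk : s ≠ k := fun e => hμ (by rw [e, C.zero])
    have hds := C.base.rep_not_fib k.2 hs hsk
    have h1 : (k : G) * (s * d * s) * k = s * d * s := by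
      have hk : Commute (k : G) s := Hyp.line_commute C.base.ha (C.rep k) (mem_right k.2.1) hs.1
      exact conj_self_of_commute C.hT k.2.1 ((hk.mul_right k.2.2.2).mul_right hk)
    rw [mul_inv_rev, mul_inv_rev, inv_eq C.hT C.base.ha, inv_eq C.hT k.2.1, inv_eq C.hT hs.1.1,
      show a * k * s * d * (s * (k * a)) = a * ((k : G) * (s * d * s) * k) * a by simp only [mul_assoc], h1]
    exact commute_translate C.hT C.base.ha C.base.hd hs.1.1 (C.fib_d hs).2.2.symm C.base.hnc
      fun e => hds e.symm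

theorem T_np (hg : C.IsT x g) (hq : q ∈ NP D a) : g * q * g⁻¹ ∈ NP D a := C.np_conj (C.T_mem hg).2.2.1 hq

theorem aa_np (hq : q ∈ NP D a) : a * q * a ∈ NP D a := by
  simpa [inv_eq C.hT C.base.ha] using C.np_conj (Base.self_mem_cen (D := D)) hq

theorem T_comm_a (hg : C.IsT x g) : g * a * g⁻¹ = a := by
  rw [(C.base.cen_commute (C.T_mem hg).2.2.1).eq, mul_inv_cancel_right]

theorem T_conj_aa (hg : C.IsT x g) (q : G) : g * (a * q * a) * g⁻¹ = a * (g * q * g⁻¹) * a := by
  conv_rhs => rw [← C.T_comm_a hg]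
  group

/-- The member moved from `d` by two translations. -/
theorem T_T_c (hx : C.IsT x gx) (hy : C.IsT y gy) :
    gy * (gx * d * gx⁻¹) * gy⁻¹ ∈ NP D a ∧ C.c (gy * (gx * d * gx⁻¹) * gy⁻¹) = x + y := by
  refine ⟨C.T_np hy (C.T_np hx C.d_np), ?_⟩
  rw [C.T_c hy (C.T_np hx C.d_np), C.T_c hx C.d_np, C.c_d, zero_add]

theorem T_T_commute (hx : C.IsT x gx) (hy : C.IsT y gy) :
    Commute d (gy * (gx * d * gx⁻¹) * gy⁻¹) ↔ C.form y x = 0 := by
  have e1 : Commute d (gy * (gx * d * gx⁻¹) * gy⁻¹) ↔ Commute (gy * d * gy⁻¹) (gx * d * gx⁻¹) := by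
    conv_rhs => rw [← commute_conj gy]
    have hinv := (C.T_mem hy).2.2.2
    have h2 : gy * gy = 1 := by nth_rw 2 [← hinv]; exact mul_inv_cancel gy
    rw [show gy * (gy * d * gy⁻¹) * gy⁻¹ = (gy * gy) * d * (gy * gy)⁻¹ by group, h2]
    simp
  rw [e1]
  have hform0 : ∀ (z : Rep D a d → F4), z ∈ C.U → C.form 0 z = 0 ∧ C.form z 0 = 0 := fun z hz => by
    refine ⟨?_, ?_⟩
    · rw [C.form_eq (y := 0) hz] <;> simp
    · simp [form]
  rcases hy with ⟨rfl, rfl⟩ | ⟨l, t, ht, hν, hy0, rfl⟩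
  · simp only [one_mul, inv_one, mul_one, (hform0 x (C.T_mem hx).1).1, iff_true]
    exact C.T_d hx
  have hy' : C.IsT y (a * l * t) := Or.inr ⟨l, t, ht, hν, hy0, rfl⟩
  rcases hx with ⟨rfl, rfl⟩ | ⟨k, s, hs, hμ, rfl, rfl⟩
  · simp only [one_mul, inv_one, mul_one, (hform0 y (C.T_mem hy').1).2, iff_true]
    exact (C.T_d hy').symm
  subst hy0
  have key : ∀ (k : Rep D a d) (s : G), s ∈ fib D a k → C.φ k s ≠ 0 →
      a * k * s * d * (a * k * s)⁻¹ = a * (d * s * d) * a ∧ ¬ Commute d s := by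
    intro k s hs hμ
    have hds := C.base.rep_not_fib k.2 hs fun e => hμ (by rw [e, C.zero])
    have hk : Commute (k : G) s := Hyp.line_commute C.base.ha (C.rep k) (mem_right k.2.1) hs.1
    refine ⟨?_, hds⟩
    rw [mul_inv_rev, mul_inv_rev, inv_eq C.hT C.base.ha, inv_eq C.hT k.2.1, inv_eq C.hT hs.1.1,
      show a * k * s * d * (s * (k * a)) = a * ((k : G) * (s * d * s) * k) * a by simp only [mul_assoc],
      conj_self_of_commute C.hT k.2.1 ((hk.mul_right k.2.2.2).mul_right hk),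
      braid C.hT C.base.hd hs.1.1 hds]
  rw [(key l t ht hν).1, (key k s hs hμ).1, conj_involution C.hT C.base.ha,
    conj_involution C.hT C.base.ha, commute_conj, conj_involution C.hT C.base.hd,
    conj_involution C.hT C.base.hd, commute_conj, C.hyp.commute_fib_fib C.base.ha (C.rep l) (C.rep k) ht hs,
    C.form_smul_left _ (C.col_mem _) (Submodule.smul_mem _ _ (C.col_mem _)), C.form_smul_right,
    C.form_col (C.col_mem _)]
  show _ ↔ F4.frob (C.φ l t) * (C.φ k s * C.H l k) = 0
  simp [hν, hμ, C.zero_iff]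

/-- The third member with `d`. -/
theorem T_T_third (hx : C.IsT x gx) (hy : C.IsT y gy)
    (htr : C.form x y + F4.frob (C.form x y) = 1) :
    C.c (d * (gy * (gx * d * gx⁻¹) * gy⁻¹) * d) = C.form y x • (x + y) := by
  have hT := C.hT
  have hd := C.base.hd
  set P := gy * (gx * d * gx⁻¹) * gy⁻¹ with hP
  obtain ⟨hPn, hPc⟩ := C.T_T_c hx hy
  have hxU := (C.T_mem hx).1
  have hyU := (C.T_mem hy).1
  have hne : C.form y x ≠ 0 := fun e => by
    rw [← C.form_symm hyU hxU, e, map_zero, map_zero, add_zero] at htr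
    exact zero_ne_one htr
  have hPd : ¬ Commute d P := fun e => hne ((C.T_T_commute hx hy).1 e)
  have hNx := (C.T_mem hx).2.1
  have hNy := (C.T_mem hy).2.1
  rcases hx with ⟨rfl, rfl⟩ | ⟨i, s, hs, hμ, hx0, rfl⟩
  · exact absurd (by simp [form]) hne
  rcases hy with ⟨rfl, rfl⟩ | ⟨k, t, ht, hν, hy0, rfl⟩
  · exact absurd (by rw [C.form_eq (y := 0) hxU] <;> simp) hne
  have hds := C.base.rep_not_fib i.2 hs fun e => hμ (by rw [e, C.zero])
  have hdt := C.base.rep_not_fib k.2 ht fun e => hν (by rw [e, C.zero])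
  have hsd := C.fib_d hs
  have htd := C.fib_d ht
  have hst : ¬ Commute s t := fun e => hne <| by
    rw [hx0, hy0, C.form_smul_left _ (C.col_mem _) (Submodule.smul_mem _ _ (C.col_mem _)),
      C.form_smul_right, C.form_col (C.col_mem _), col,
      (C.zero_iff k i).2 ((C.hyp.commute_fib_fib C.base.ha (C.rep i) (C.rep k) hs ht).1 e).symm, mul_zero,
      mul_zero]
  have hsi : Commute (i : G) s := Hyp.line_commute C.base.ha (C.rep i) (mem_right i.2.1) hs.1
  have hPe : P = (k : G) * (t * (s * d * s) * t) * k := by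
    rw [hP, mul_inv_rev, mul_inv_rev, mul_inv_rev, mul_inv_rev, inv_eq hT C.base.ha, inv_eq hT i.2.1,
      inv_eq hT hs.1.1, inv_eq hT k.2.1, inv_eq hT ht.1.1]
    have e1 : a * i * s * d * (s * (i * a)) = a * ((i : G) * (s * d * s) * i) * a := by simp only [mul_assoc]
    rw [e1, conj_self_of_commute hT i.2.1 ((hsi.mul_right i.2.2.2).mul_right hsi)]
    have e2 : Commute ((k : G) * t) a := (C.rep k).2.2.symm.mul_left htd.2.2.symm
    calc a * k * t * (a * (s * d * s) * a) * (t * (k * a))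
        = a * (((k : G) * t) * a) * (s * d * s) * (a * t * k) * a := by simp only [mul_assoc]
      _ = a * (a * ((k : G) * t)) * (s * d * s) * ((t * k) * a) * a := by
          rw [e2.eq, show a * t * k = (t * k) * a from
            (mul_assoc _ _ _).trans ((C.rep k).2.2.symm.mul_left htd.2.2.symm |> fun _ =>
              (htd.2.2.mul_right (C.rep k).2.2).eq)]
      _ = _ := by simp only [mul_assoc, mul_self_mul hT C.base.ha, C.hyp.sq C.base.ha, mul_one]
  set k' := t * s * t with hk'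
  have hk'D : k' ∈ D := C.hyp.mem_conj ht.1.1 hs.1.1
  by_cases hdk : Commute d k'
  · -- then `x + y` would be isotropic
    exfalso
    have hr : d * P * d = (k : G) * s * k := by
      rw [hPe]
      calc d * ((k : G) * (t * (s * d * s) * t) * k) * d
          = (d * k) * (t * (s * d * s) * t) * (k * d) := by simp only [mul_assoc]
        _ = (k * d) * (t * (s * d * s) * t) * (d * k) :=
            congrArg₂ (fun u v => u * (t * (s * d * s) * t) * v) k.2.2.2.symm.eq k.2.2.2.eq
        _ = k * (d * t * (d * s * d) * t * d) * k := by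
            rw [braid hT hs.1.1 hd fun e => hds e.symm]
            simp only [mul_assoc]
        _ = k * ((t * d * t) * s * (t * d * t)) * k := by
            rw [← braid hT hd ht.1.1 hdt]; simp only [mul_assoc]
        _ = k * (t * (d * k' * d) * t) * k := by rw [hk']; simp only [mul_assoc]
        _ = k * (t * k' * t) * k := by rw [conj_self_of_commute hT hd hdk]
        _ = _ := by rw [hk']; simp only [mul_assoc, mul_self_mul hT ht.1.1, C.hyp.sq ht.1.1, mul_one]
    have hrd : d * P * d ∈ dperp D a := by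
      rw [hr]
      have := dperp_conj C.hyp.hc (k : G) hsd
      rwa [(C.rep k).2.2.symm.eq, mul_inv_cancel_right, inv_eq hT k.2.1] at this
    obtain ⟨l, hl, hrl⟩ := C.base.exists_rep hrd
    have hnc : ¬ Commute d (d * P * d) := fun e => hPd <| by
      have h1 := conj_self_of_commute hT hd e
      rw [show d * (d * P * d) * d = P by
        simp only [mul_assoc, mul_self_mul hT hd, C.hyp.sq hd, mul_one]] at h1
      exact h1.symm ▸ e
    have hP2 : P = (d * P * d) * d * (d * P * d) := by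
      rw [← braid hT hd hrd.1 hnc]
      simp only [mul_assoc, mul_self_mul hT hd, C.hyp.sq hd, mul_one]
    have h1 := C.c_conj (i := ⟨l, hl⟩) C.d_np hrl
    rw [← hP2, hPc, C.c_d, Pi.zero_apply, zero_add, zero_add] at h1
    have h2 := C.form_add_self hxU hyU
    rw [h1, C.form_smul_col, hNx, hNy, htr, zero_add, zero_add] at h2
    exact zero_ne_one h2
  have hr : d * P * d = (k : G) * (s * (t * d * t) * s) * k := by
    rw [hPe]
    calc d * ((k : G) * (t * (s * d * s) * t) * k) * d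
        = (d * k) * (t * (s * d * s) * t) * (k * d) := by simp only [mul_assoc]
      _ = (k * d) * (t * (s * d * s) * t) * (d * k) :=
          congrArg₂ (fun u v => u * (t * (s * d * s) * t) * v) k.2.2.2.symm.eq k.2.2.2.eq
      _ = k * (d * t * (d * s * d) * t * d) * k := by
          rw [braid hT hs.1.1 hd fun e => hds e.symm]
          simp only [mul_assoc]
      _ = k * ((t * d * t) * s * (t * d * t)) * k := by
          rw [← braid hT hd ht.1.1 hdt]; simp only [mul_assoc]
      _ = k * (t * (d * k' * d) * t) * k := by rw [hk']; simp only [mul_assoc]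
      _ = k * (t * (k' * d * k') * t) * k := by rw [braid hT hd hk'D hdk]
      _ = k * ((t * k') * d * (k' * t)) * k := by simp only [mul_assoc]
      _ = _ := by
          rw [show t * k' = s * t by rw [hk', mul_assoc t s t, mul_self_mul hT ht.1.1],
            show k' * t = t * s by rw [hk', mul_mul_self hT ht.1.1]]
          simp only [mul_assoc]
  have n1 := C.np_conj' htd C.d_np
  have n2 := C.np_conj' hsd n1
  have hxy := C.form_symm hxU hyU
  set c0 := C.form x y with hc0
  have u1 : C.c (t * d * t) = y := by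
    rw [C.c_conj C.d_np ht, C.c_d, Pi.zero_apply, zero_add, zero_add, hy0]
  have u2 : C.c (s * (t * d * t) * s) = y + (1 + c0) • x := by
    rw [C.c_conj n1 hs, u1, add_smul, add_smul, one_smul, hc0, hx0, C.smul_coord hyU hμ]
    abel
  have u3 : C.c (d * P * d) = (y + (1 + c0) • x) + C.form y (y + (1 + c0) • x) • y := by
    rw [hr, C.c_conj n2 (C.self_fib k), u2, C.zero, add_zero]
    conv_rhs => rw [hy0, C.smul_coord (by rw [← hy0]; exact add_mem hyU (Submodule.smul_mem _ _ hxU)) hν]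
    rw [← hy0]
  rw [u3, C.form_add_right, C.form_smul_right, hNy, zero_add, ← hxy]
  have key : ∀ z : F4, z + F4.frob z = 1 → 1 + (1 + z) * F4.frob z = F4.frob z ∧ 1 + z = F4.frob z := by
    decide +kernel
  obtain ⟨k1, k2⟩ := key c0 htr
  rw [add_right_comm]
  nth_rw 1 [← one_smul F4 y]
  rw [← add_smul, k1, k2, smul_add, add_comm]

/-! ### The scalar -/

open scoped _root_.Classical in
/-- The scalar of a non-partner of `a`. -/
noncomputable def lam (p : G) : F4 :=
  if Commute d p then 0 else if C.form (C.c p) (C.c p) = 0 then 1 else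
    if h : ∃ μ, C.c (d * p * d) = μ • C.c p then h.choose else 0

theorem lam_T_T (hx : C.IsT x gx) (hy : C.IsT y gy) :
    C.lam (gy * (gx * d * gx⁻¹) * gy⁻¹) = C.form y x := by
  obtain ⟨hxU, hNx, -, -⟩ := C.T_mem hx
  obtain ⟨hyU, hNy, -, -⟩ := C.T_mem hy
  have hc := (C.T_T_c hx hy).2
  by_cases h0 : C.form y x = 0
  · rw [lam, if_pos ((C.T_T_commute hx hy).2 h0), h0]
  have hnc : ¬ Commute d (gy * (gx * d * gx⁻¹) * gy⁻¹) := fun e => h0 ((C.T_T_commute hx hy).1 e)
  rw [lam, if_neg hnc, hc, C.form_add_self hxU hyU, hNx, hNy, zero_add, zero_add]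
  rcases f4_trace (C.form x y) with htr | htr
  · rw [if_pos htr]
    have key : ∀ z : F4, z ≠ 0 → F4.frob z + z = 0 → z = 1 := by decide +kernel
    refine (key _ h0 ?_).symm
    rw [C.form_symm hyU hxU, ← C.form_symm hxU hyU]
    exact htr
  · rw [if_neg (by rw [htr]; exact one_ne_zero)]
    have h3 := C.T_T_third hx hy htr
    have hex : ∃ μ, C.c (d * (gy * (gx * d * gx⁻¹) * gy⁻¹) * d) = μ • (x + y) := ⟨_, h3⟩
    rw [dif_pos hex]
    have h4 := hex.choose_spec.symm.trans h3
    have hne : x + y ≠ 0 := fun e => by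
      have h5 := C.form_add_self hxU hyU
      rw [e, hNx, hNy, htr, zero_add, zero_add,
        show C.form (0 : Rep D a d → F4) 0 = 0 by simp [form]] at h5
      exact zero_ne_one h5
    exact smul_left_injective F4 hne h4

theorem form_comm_of_iso (hx : C.IsT x gx) (hy : C.IsT y gy)
    (h : C.form (x + y) (x + y) = 0) : C.form x y = C.form y x := by
  obtain ⟨hxU, hNx, -, -⟩ := C.T_mem hx
  obtain ⟨hyU, hNy, -, -⟩ := C.T_mem hy
  rw [C.form_add_self hxU hyU, hNx, hNy, zero_add, zero_add, C.form_symm hxU hyU] at h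
  linear_combination h - f4_two (C.form y x)

theorem not_both_commute (hq : q ∈ NP D a) (h : Commute d q) : ¬ Commute d (a * q * a) := by
  intro h'
  have h1 := (commute_conj a _ _).2 h'
  rw [inv_eq C.hT C.base.ha, show a * (a * q * a) * a = q by
    simp only [mul_assoc, mul_self_mul C.hT C.base.ha, C.hyp.sq C.base.ha, mul_one],
    braid C.hT C.base.ha C.base.hd C.base.hnc] at h1
  have h2 := (commute_conj d _ _).2 h1
  rw [h.eq, mul_inv_cancel_right, inv_eq C.hT C.base.hd,
    show d * (d * a * d) * d = a by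
      simp only [mul_assoc, mul_self_mul C.hT C.base.hd, C.hyp.sq C.base.hd, mul_one]] at h2
  exact hq.2 h2

theorem lam_aa_T_T (hx : C.IsT x gx) (hy : C.IsT y gy) :
    C.lam (a * (gy * (gx * d * gx⁻¹) * gy⁻¹) * a) = C.form y x + 1 := by
  obtain ⟨hxU, hNx, -, -⟩ := C.T_mem hx
  obtain ⟨hyU, hNy, -, -⟩ := C.T_mem hy
  obtain ⟨hPn, hPc⟩ := C.T_T_c hx hy
  set P := gy * (gx * d * gx⁻¹) * gy⁻¹ with hP
  have haP := C.aa_np hPn
  have haPc : C.c (a * P * a) = x + y := by rw [C.c_aa hPn, hPc]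
  have hneP : P ≠ a * P * a := fun e => hPn.2 <| by
    show a * P = P * a
    conv_rhs => rw [e]
    rw [mul_mul_self C.hT C.base.ha]
  rcases C.form_self_cases (add_mem hxU hyU) with h0 | h1
  · have hfix : F4.frob (C.form y x) = C.form y x := by
      rw [C.form_symm hyU hxU]; exact C.form_comm_of_iso hx hy h0
    rcases f4_fix _ hfix with h | h
    · rw [h, zero_add, lam, if_neg (C.not_both_commute hPn ((C.T_T_commute hx hy).2 h)), haPc, if_pos h0]
    · rw [h, f4_two]
      obtain ⟨gz, hz⟩ := C.exists_T (add_mem hxU hyU) h0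
      have hzc : C.c (gz * d * gz⁻¹) = C.c P := by rw [C.T_c hz C.d_np, C.c_d, zero_add, hPc]
      rcases C.eq_or_eq_of_c_eq C.K0_eq hPn (C.T_np hz C.d_np) hzc with e | e
      · exfalso
        have : Commute d P := e ▸ C.T_d hz
        exact one_ne_zero (h ▸ (C.T_T_commute hx hy).1 this)
      · rw [lam, if_pos (e ▸ C.T_d hz)]
  · have htr : C.form x y + F4.frob (C.form x y) = 1 := by
      rw [C.form_add_self hxU hyU, hNx, hNy, zero_add, zero_add] at h1; exact h1
    have hne : C.form y x ≠ C.form x y := fun e => zero_ne_one (by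
      rw [← htr, C.form_symm hxU hyU, e, f4_two])
    obtain ⟨hP'n, hP'c⟩ := C.T_T_c hy hx
    rw [add_comm] at hP'c
    rcases C.eq_or_eq_of_c_eq C.K0_eq hPn hP'n (hP'c.trans hPc.symm) with e | e
    · exfalso
      have h1 := C.lam_T_T hy hx
      rw [e, hP, C.lam_T_T hx hy] at h1
      exact hne h1
    · rw [← e, C.lam_T_T hy hx]
      rw [← C.form_symm hxU hyU]
      generalize C.form x y = z at htr ⊢
      linear_combination htr - f4_two (F4.frob z)

/-- Every non-partner is reached by two translations, possibly followed by `a`. -/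
theorem exists_rep_np (hp : p ∈ NP D a) : ∃ x y gx gy, C.IsT x gx ∧ C.IsT y gy ∧ C.c p = x + y ∧
    ((p = gy * (gx * d * gx⁻¹) * gy⁻¹ ∧ C.lam p = C.form y x) ∨
      (p = a * (gy * (gx * d * gx⁻¹) * gy⁻¹) * a ∧ C.lam p = C.form y x + 1)) := by
  have hu := C.c_mem hp
  obtain ⟨x, y, gx, gy, hx, hy, hxy⟩ : ∃ x y gx gy, C.IsT x gx ∧ C.IsT y gy ∧ C.c p = x + y := by
    rcases C.form_self_cases hu with h0 | h1
    · obtain ⟨g, hg⟩ := C.exists_T hu h0
      exact ⟨_, 0, g, 1, hg, Or.inl ⟨rfl, rfl⟩, (add_zero _).symm⟩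
    · set u := C.c p with hudef
      obtain ⟨i, hi⟩ : ∃ i, u i ≠ 0 := by
        by_contra hc
        push Not at hc
        have : u = 0 := funext hc
        rw [this, show C.form (0 : Rep D a d → F4) 0 = 0 by simp [form]] at h1
        exact zero_ne_one h1
      set e := (F4.w * u i) • C.col i with he
      have heU : e ∈ C.U := Submodule.smul_mem _ _ (C.col_mem _)
      have hxx : C.form (u + e) (u + e) = 0 := by
        rw [C.form_add_self hu heU, h1, he, C.form_smul_col, C.form_smul_right,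
          ← C.form_symm (C.col_mem i) hu, C.form_col hu, add_zero]
        have key : ∀ z : F4, z ≠ 0 → 1 + (F4.w * z * F4.frob z + F4.frob (F4.w * z * F4.frob z)) = 0 := by
          decide +kernel
        exact key _ hi
      obtain ⟨gx, hgx⟩ := C.exists_T (add_mem hu heU) hxx
      obtain ⟨gy, hgy⟩ := C.exists_T heU (C.form_smul_col _ _)
      refine ⟨_, _, gx, gy, hgx, hgy, funext fun l => ?_⟩
      simp only [Pi.add_apply]
      linear_combination -(f4_two (e l))
  obtain ⟨hPn, hPc⟩ := C.T_T_c hx hy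
  refine ⟨x, y, gx, gy, hx, hy, hxy, ?_⟩
  rcases C.eq_or_eq_of_c_eq C.K0_eq hPn hp (hxy.trans hPc.symm) with e | e
  · exact Or.inl ⟨e, e ▸ C.lam_T_T hx hy⟩
  · exact Or.inr ⟨e, e ▸ C.lam_aa_T_T hx hy⟩

theorem lam_aa (hp : p ∈ NP D a) : C.lam (a * p * a) = C.lam p + 1 := by
  obtain ⟨x, y, gx, gy, hx, hy, -, ⟨e, hl⟩ | ⟨e, hl⟩⟩ := C.exists_rep_np hp
  · rw [hl, e, C.lam_aa_T_T hx hy]
  · rw [hl, e]
    simp only [mul_assoc, mul_self_mul C.hT C.base.ha, C.hyp.sq C.base.ha, mul_one]
    rw [← mul_assoc gy, ← mul_assoc (gy * gx)]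
    rw [show gy * gx * d * (gx⁻¹ * gy⁻¹) = gy * (gx * d * gx⁻¹) * gy⁻¹ by group, C.lam_T_T hx hy]
    linear_combination -(f4_two (1 : F4))

theorem lam_zero_iff (hp : p ∈ NP D a) : C.lam p = 0 ↔ Commute d p := by
  obtain ⟨x, y, gx, gy, hx, hy, -, ⟨e, hl⟩ | ⟨e, hl⟩⟩ := C.exists_rep_np hp
  · rw [hl, e]; exact (C.T_T_commute hx hy).symm
  · refine ⟨fun h => ?_, fun h => by rw [lam, if_pos h]⟩
    by_contra hnc
    rw [lam, if_neg hnc] at h
    by_cases h0 : C.form (C.c p) (C.c p) = 0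
    · rw [if_pos h0] at h; exact one_ne_zero h
    · rw [if_neg h0] at h
      have hl' : C.lam p = 0 := by rw [lam, if_neg hnc, if_neg h0]; exact h
      rw [hl'] at hl
      have hyx : C.form y x = 1 := by linear_combination -hl - f4_two (1 : F4) + (0 : F4)
      have hc : C.c p = x + y := by rw [e, C.c_aa (C.T_T_c hx hy).1, (C.T_T_c hx hy).2]
      apply h0
      rw [hc, C.form_add_self (C.T_mem hx).1 (C.T_mem hy).1, (C.T_mem hx).2.1, (C.T_mem hy).2.1,
        ← C.form_symm (C.T_mem hy).1 (C.T_mem hx).1, hyx, map_one, map_one]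
      decide +kernel

theorem lam_trace (hp : p ∈ NP D a) : C.lam p + F4.frob (C.lam p) = C.form (C.c p) (C.c p) := by
  obtain ⟨x, y, gx, gy, hx, hy, hc, hl⟩ := C.exists_rep_np hp
  have h1 : C.form (C.c p) (C.c p) = C.form y x + F4.frob (C.form y x) := by
    rw [hc, C.form_add_self (C.T_mem hx).1 (C.T_mem hy).1, (C.T_mem hx).2.1, (C.T_mem hy).2.1,
      C.form_symm (C.T_mem hy).1 (C.T_mem hx).1, ← C.form_symm (C.T_mem hx).1 (C.T_mem hy).1]
    ring
  rcases hl with ⟨-, hl⟩ | ⟨-, hl⟩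
  · rw [h1, hl]
  · rw [h1, hl, map_add, map_one]
    linear_combination f4_two (1 : F4)

/-- A product of two translations. -/
theorem T_mul (hw : C.IsT w g) (hy : C.IsT y gy) {gz : G} (hz : C.IsT (w + y) gz) :
    (C.form w y = 0 → g * gy = gz) ∧ (C.form w y = 1 → g * gy = a * gz) := by
  have hpd : ∀ q, q = g * gy ∨ q = a * (g * gy) → gz⁻¹ * q * d * (gz⁻¹ * q)⁻¹ = d → q = gz := by
    intro q hq hqd
    have hqK : gz⁻¹ * q ∈ cen D a := by
      refine mul_mem (inv_mem (C.T_mem hz).2.2.1) ?_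
      rcases hq with rfl | rfl
      · exact mul_mem (C.T_mem hw).2.2.1 (C.T_mem hy).2.2.1
      · exact mul_mem Base.self_mem_cen (mul_mem (C.T_mem hw).2.2.1 (C.T_mem hy).2.2.1)
    have h1 : gz⁻¹ * q = 1 := by
      refine C.base.eq_one_of_commute (C.base.cen_commute hqK) ?_ fun v hv => ?_
      · rwa [mul_inv_eq_iff_eq_mul] at hqd
      · obtain ⟨l, hl, hvl⟩ := C.base.exists_rep hv
        obtain ⟨h1, e1⟩ := C.T_fib hy (l := ⟨l, hl⟩) hvl
        obtain ⟨h2, e2⟩ := C.T_fib hw h1
        have hqv : q * v * q⁻¹ = g * (gy * v * gy⁻¹) * g⁻¹ := by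
          rcases hq with rfl | rfl
          · group
          · rw [mul_inv_rev, inv_eq C.hT C.base.ha,
              show a * (g * gy) * v * ((g * gy)⁻¹ * a) = a * (g * (gy * v * gy⁻¹) * g⁻¹) * a by group,
              conj_self_of_commute C.hT C.base.ha (C.fib_d h2).2.2]
        obtain ⟨h3, e3⟩ := C.T_fib hz h2
        have hfix : gz * (g * (gy * v * gy⁻¹) * g⁻¹) * gz⁻¹ = v := by
          refine (C.bij _).injOn h3 hvl ?_
          rw [e3, e2, e1, Pi.add_apply]
          linear_combination f4_two (w ⟨l, hl⟩) + f4_two (y ⟨l, hl⟩)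
        have : gz⁻¹ * q * v * (gz⁻¹ * q)⁻¹ = v := by
          rw [(C.T_mem hz).2.2.2, mul_inv_rev,
            show gz * q * v * (q⁻¹ * gz⁻¹) = gz * (q * v * q⁻¹) * gz⁻¹ by group, hqv, hfix]
        rwa [mul_inv_eq_iff_eq_mul] at this
    exact (inv_mul_eq_one.1 h1).symm
  obtain ⟨hQn, hQc⟩ := C.T_T_c hy hw
  rw [add_comm] at hQc
  have hRc : C.c (gz * d * gz⁻¹) = w + y := by rw [C.T_c hz C.d_np, C.c_d, zero_add]
  have hR : C.lam (gz * d * gz⁻¹) = 0 := by rw [lam, if_pos (C.T_d hz)]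
  constructor
  · intro h0
    rcases C.eq_or_eq_of_c_eq C.K0_eq (C.T_np hz C.d_np) hQn (hQc.trans hRc.symm) with e | e
    · refine hpd _ (Or.inl rfl) ?_
      rw [show gz⁻¹ * (g * gy) * d * (gz⁻¹ * (g * gy))⁻¹ = gz⁻¹ * (g * (gy * d * gy⁻¹) * g⁻¹) * gz by group, e]
      group
    · exfalso
      have h1 := C.lam_T_T hy hw
      rw [e, C.lam_aa (C.T_np hz C.d_np), hR, h0, zero_add] at h1
      exact one_ne_zero h1
  · intro h1'
    rcases C.eq_or_eq_of_c_eq C.K0_eq (C.T_np hz C.d_np) hQn (hQc.trans hRc.symm) with e | e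
    · exfalso
      have h1 := C.lam_T_T hy hw
      rw [e, hR, h1'] at h1
      exact zero_ne_one h1
    · have := hpd _ (Or.inr rfl) (by
        rw [show gz⁻¹ * (a * (g * gy)) * d * (gz⁻¹ * (a * (g * gy)))⁻¹ =
          gz⁻¹ * (a * (g * (gy * d * gy⁻¹) * g⁻¹) * a⁻¹) * gz by group, inv_eq C.hT C.base.ha, e]
        simp only [mul_assoc, mul_self_mul C.hT C.base.ha]
        simp)
      rw [← this, mul_self_mul C.hT C.base.ha]

theorem lam_T (hw : C.IsT w g) (hp : p ∈ NP D a) :
    C.lam (g * p * g⁻¹) = C.lam p + C.form w (C.c p) := by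
  obtain ⟨hwU, hNw, -, -⟩ := C.T_mem hw
  have hu := C.c_mem hp
  rcases hw with ⟨rfl, rfl⟩ | hw'
  · rw [C.form_eq (y := 0) hu] <;> simp
  have hw : C.IsT w g := Or.inr hw'
  -- transfer along `a`
  suffices key : ∃ q ∈ NP D a, C.c q = C.c p ∧ C.lam (g * q * g⁻¹) = C.lam q + C.form w (C.c p) by
    obtain ⟨q, hq, hqc, hql⟩ := key
    rcases C.eq_or_eq_of_c_eq C.K0_eq hq hp hqc.symm with e | e
    · rwa [e] at hql ⊢
    · rw [e, C.T_conj_aa hw, C.lam_aa (C.T_np hw hq), hql, C.lam_aa hq, C.c_aa hq, hqc]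
      ring
  set u := C.c p with hudef
  rcases C.form_self_cases hu with h0 | h1
  · obtain ⟨gu, hgu⟩ := C.exists_T hu h0
    refine ⟨gu * d * gu⁻¹, C.T_np hgu C.d_np, by rw [C.T_c hgu C.d_np, C.c_d, zero_add], ?_⟩
    rw [C.lam_T_T hgu hw, show C.lam (gu * d * gu⁻¹) = 0 by rw [lam, if_pos (C.T_d hgu)], zero_add]
  obtain ⟨y, hyU, hNy, hA, htr⟩ : ∃ y, y ∈ C.U ∧ C.form y y = 0 ∧
      (C.form w y = 0 ∨ C.form w y = 1) ∧ C.form y u + F4.frob (C.form y u) = 1 := by
    by_cases he : C.form w u = 0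
    · obtain ⟨i, hi⟩ : ∃ i, w i ≠ 0 := by
        by_contra hc
        push Not at hc
        obtain ⟨k, s, hs, hμ, hwk, -⟩ := hw'
        have : w = 0 := funext hc
        rw [this] at hwk
        exact hμ ((smul_eq_zero.1 hwk.symm).resolve_right (C.col_ne_zero k))
      set z := (F4.frob (w i))⁻¹ • C.col i with hz
      have hzU : z ∈ C.U := Submodule.smul_mem _ _ (C.col_mem _)
      have hwz : C.form w z = 1 := by
        rw [hz, C.form_smul_right, ← C.form_symm (C.col_mem i) hwU, C.form_col hwU,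
          inv_mul_cancel₀ ((map_ne_zero F4.frob).2 hi)]
      set y0 := z + (F4.w + C.form u z) • u with hy0
      have hy0U : y0 ∈ C.U := add_mem hzU (Submodule.smul_mem _ _ hu)
      have h2 : C.form w y0 = 1 := by
        rw [hy0, C.form_add_right, C.form_smul_right (g := u), he, mul_zero, add_zero, hwz]
      have h3 : C.form u y0 = F4.w := by
        rw [hy0, C.form_add_right, C.form_smul_right (g := u), h1, mul_one]
        linear_combination f4_two (C.form u z)
      set β := F4.w * C.form y0 y0 with hβ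
      have hyU : y0 + β • w ∈ C.U := add_mem hy0U (Submodule.smul_mem _ _ hwU)
      refine ⟨y0 + β • w, hyU, ?_, Or.inr ?_, ?_⟩
      · rw [C.form_add_self hy0U (Submodule.smul_mem _ _ hwU),
          C.form_smul_left β hwU (Submodule.smul_mem _ _ hwU), C.form_smul_right, hNw, C.form_smul_right,
          ← C.form_symm hwU hy0U, h2, map_one, hβ]
        have key : ∀ n : F4, n = 0 ∨ n = 1 →
            n + F4.frob (F4.w * n) * (F4.w * n * 0) + (F4.w * n * 1 + F4.frob (F4.w * n * 1)) = 0 := by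
          decide +kernel
        exact key _ (C.form_self_cases hy0U)
      · rw [C.form_add_right, C.form_smul_right, hNw, mul_zero, add_zero, h2]
      · rw [← C.form_symm hu hyU, C.form_add_right, C.form_smul_right, h3,
          show C.form u w = 0 by rw [← C.form_symm hwU hu, he, map_zero], mul_zero, add_zero]
        decide +kernel
    · refine ⟨F4.frob (F4.w / C.form w u) • w, Submodule.smul_mem _ _ hwU, ?_, Or.inl ?_, ?_⟩
      · rw [C.form_smul_left _ hwU (Submodule.smul_mem _ _ hwU), C.form_smul_right, hNw, mul_zero, mul_zero]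
      · rw [C.form_smul_right, hNw, mul_zero]
      · rw [C.form_smul_left _ hwU hu, f4_invol, div_mul_cancel₀ _ he]
        decide +kernel
  have hxU : u + y ∈ C.U := add_mem hu hyU
  have hNx : C.form (u + y) (u + y) = 0 := by
    rw [C.form_add_self hu hyU, h1, hNy, add_zero, ← C.form_symm hyU hu, f4_invol]
    linear_combination htr + f4_two (1 : F4)
  have hNz : C.form (w + y) (w + y) = 0 := by
    rw [C.form_add_self hwU hyU, hNw, hNy, zero_add, zero_add]
    rcases hA with h | h <;> rw [h] <;> simp [f4_two]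
  obtain ⟨gx, hgx⟩ := C.exists_T hxU hNx
  obtain ⟨gy, hgy⟩ := C.exists_T hyU hNy
  obtain ⟨gz, hgz⟩ := C.exists_T (add_mem hwU hyU) hNz
  have hxy : u + y + y = u := funext fun l => by
    simp only [Pi.add_apply]; linear_combination f4_two (y l)
  refine ⟨gy * (gx * d * gx⁻¹) * gy⁻¹, (C.T_T_c hgx hgy).1, by rw [(C.T_T_c hgx hgy).2, hxy], ?_⟩
  rw [C.lam_T_T hgx hgy]
  have hval : C.form (w + y) (u + y) = C.form w u + C.form w y + C.form y (u + y) := by
    rw [C.form_add_left hwU hyU hxU, C.form_add_right (f := w)]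
  obtain ⟨m0, m1⟩ := C.T_mul hw hgy hgz
  rcases hA with h | h
  · rw [show g * (gy * (gx * d * gx⁻¹) * gy⁻¹) * g⁻¹ = (g * gy) * (gx * d * gx⁻¹) * (g * gy)⁻¹ by group,
      m0 h, C.lam_T_T hgx hgz, hval, h]
    ring
  · rw [show g * (gy * (gx * d * gx⁻¹) * gy⁻¹) * g⁻¹ = (g * gy) * (gx * d * gx⁻¹) * (g * gy)⁻¹ by group,
      m1 h, show a * gz * (gx * d * gx⁻¹) * (a * gz)⁻¹ = a * (gz * (gx * d * gx⁻¹) * gz⁻¹) * a⁻¹ by group,
      inv_eq C.hT C.base.ha, C.lam_aa_T_T hgx hgz, hval, h]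
    linear_combination f4_two (1 : F4)

/-- Commuting non-partners of `a` are the orthogonal ones. -/
theorem commute_iff (hp : p ∈ NP D a) (hp' : p' ∈ NP D a) :
    Commute p p' ↔ F4.frob (C.lam p) + C.lam p' + C.form (C.c p) (C.c p') = 0 := by
  let P : G → Prop := fun p => ∀ p' ∈ NP D a,
    Commute p p' ↔ F4.frob (C.lam p) + C.lam p' + C.form (C.c p) (C.c p') = 0
  suffices key : P p from key p' hp'
  have hbase : P d := fun p' hp' => by
    rw [show C.lam d = 0 by rw [lam, if_pos (Commute.refl d)], map_zero, zero_add, C.c_d,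
      C.form_eq (y := 0) (C.c_mem hp')]
    · simpa using (C.lam_zero_iff hp').symm
    · simp
  have ha : ∀ q ∈ NP D a, P q → P (a * q * a) := by
    intro q hq hPq p' hp'
    have e : Commute (a * q * a) p' ↔ Commute q (a * p' * a) := by
      conv_lhs => rw [← commute_conj a, inv_eq C.hT C.base.ha]
      simp only [mul_assoc, mul_self_mul C.hT C.base.ha, C.hyp.sq C.base.ha, mul_one]
    rw [e, hPq _ (C.aa_np hp'), C.lam_aa hp', C.c_aa hp', C.lam_aa hq, C.c_aa hq, map_add, map_one,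
      show F4.frob (C.lam q) + (C.lam p' + 1) + C.form (C.c q) (C.c p') =
        F4.frob (C.lam q) + 1 + C.lam p' + C.form (C.c q) (C.c p') by ring]
  have hTstep : ∀ w g, C.IsT w g → ∀ q ∈ NP D a, P q → P (g * q * g⁻¹) := by
    intro w g hg q hq hPq p' hp'
    have hinv := (C.T_mem hg).2.2.2
    have e : Commute (g * q * g⁻¹) p' ↔ Commute q (g * p' * g⁻¹) := by
      have h2 : g * g = 1 := by nth_rw 2 [← hinv]; exact mul_inv_cancel g
      conv_lhs => rw [← commute_conj g]
      rw [show g * (g * q * g⁻¹) * g⁻¹ = (g * g) * q * (g * g)⁻¹ by group, h2]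
      simp
    rw [e, hPq _ (C.T_np hg hp'), C.lam_T hg hp', C.T_c hg hp', C.lam_T hg hq, C.T_c hg hq, map_add]
    have hwU := (C.T_mem hg).1
    have hqU := C.c_mem hq
    have hpU := C.c_mem hp'
    rw [C.form_add_left hqU hwU hpU, C.form_add_right (f := C.c q), C.form_symm hwU hqU]
    constructor <;> intro h <;> linear_combination h
  obtain ⟨x, y, gx, gy, hx, hy, -, ⟨e, -⟩ | ⟨e, -⟩⟩ := C.exists_rep_np hp
  · rw [e]; exact hTstep y gy hy _ (C.T_np hx C.d_np) (hTstep x gx hx d C.d_np hbase)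
  · rw [e]
    exact ha _ (C.T_T_c hx hy).1 (hTstep y gy hy _ (C.T_np hx C.d_np) (hTstep x gx hx d C.d_np hbase))

end Coord

end Cfsg.Agent.ThreeTrans.SpPSU
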